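import Cfsg.Agent.Lib.Ru4060.Recog.GraphCheck
import Cfsg.Agent.Lib.Ru4060.Simple

/-!
# The graph on 4060 points
-/

set_option autoImplicit false
set_option linter.style.longLine false
set_option maxRecDepth 100000

namespace Cfsg.Lib.Ru4060.Recog

open Cfsg.Lib.CosetEnum MulAction Finset
open scoped Classical

/-- The points. -/
abbrev Pt := Fin 4060

/-- The first suborbit. -/
abbrev InB (z : Pt) : Prop := bit cls1.mask z = true

/-- The second suborbit. -/
abbrev InC (z : Pt) : Prop := bit clsFar.mask z = true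

/-- Adjacency: the orbital of the first two points. -/
def Adj (p q : Pt) : Prop := ∃ g ∈ grp, g (bpt 0) = p ∧ g (bpt 1) = q

theorem mem_stab_one {g : Equiv.Perm Pt} : g ∈ stab 1 ↔ g ∈ grp ∧ g (bpt 0) = bpt 0 := by
  refine ⟨fun h => ⟨h.1, h.2 0 Nat.one_pos⟩, fun h => ⟨h.1, fun i hi => ?_⟩⟩
  obtain rfl : i = 0 := by omega
  exact h.2

theorem mem_stab_two {g : Equiv.Perm Pt} : g ∈ stab 2 ↔ g ∈ stab 1 ∧ g (bpt 1) = bpt 1 := by
  refine ⟨fun h => ⟨⟨h.1, fun i hi => h.2 i (by omega)⟩, h.2 1 one_lt_two⟩, fun h => ⟨h.1.1, fun i hi => ?_⟩⟩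
  rcases (by omega : i = 0 ∨ i = 1) with rfl | rfl
  exacts [h.1.2 0 Nat.one_pos, h.2]

theorem wordVal_stab_one {w : List ℕ} (hw : ∀ g ∈ w, g < 3) (h0 : twalk tab 3 w (bp 0) = bp 0) :
    wordVal prm w ∈ stab 1 :=
  mem_stab_one.2 ⟨wordVal_mem_grp hw, Fin.ext ((prm_walk hw _).trans h0)⟩

theorem one_inB : InB (bpt 1) := nbase.2

theorem two_inC : InC (bpt 2) := base_far.1

theorem not_inB_zero : ¬ InB (bpt 0) := Bool.eq_false_iff.1 cls1_zero

theorem cases3 (z : Pt) : z = bpt 0 ∨ InB z ∨ InC z := by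
  by_cases h0 : z = bpt 0
  · exact Or.inl h0
  · by_cases hB : InB z
    · exact Or.inr (Or.inl hB)
    · exact Or.inr (Or.inr ((far_iff z).2 ⟨Bool.eq_false_iff.2 hB, h0⟩))

theorem not_inB_of_inC {z : Pt} (h : InC z) : ¬ InB z := Bool.eq_false_iff.1 ((far_iff z).1 h).1

theorem ne_zero_of_inC {z : Pt} (h : InC z) : z ≠ bpt 0 := ((far_iff z).1 h).2

theorem inB_smul {s : Equiv.Perm Pt} (hs : s ∈ stab 1) (z : Pt) : InB (s z) ↔ InB z := by
  rw [InB, bit_first hs]

theorem inC_smul {s : Equiv.Perm Pt} (hs : s ∈ stab 1) (z : Pt) : InC (s z) ↔ InC z := by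
  rw [InC, bit_far hs]

theorem exists_one_to {z : Pt} (hz : InB z) : ∃ s ∈ stab 1, s (bpt 1) = z := by
  obtain ⟨x, hx, hxz⟩ := cls1_ok.toLvlOK.root_conn hz
  exact ⟨x, wgrp_le_stab (i := 1) (by norm_num) le_rfl hx, by
    rw [show bpt 1 = ⟨cls1.root, cls1_ok.root_lt⟩ from Fin.ext cls1_ok.root_eq.symm]; exact hxz⟩

theorem exists_two_to {z : Pt} (hz : InC z) : ∃ s ∈ stab 1, s (bpt 2) = z := by
  obtain ⟨x, hx, hxz⟩ := clsFar_ok.root_conn hz
  exact ⟨x, wgrp_le clsFar_ok.words (le_of_eq rfl) hx, by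
    rw [show bpt 2 = ⟨clsFar.root, clsFar_ok.root_lt⟩ from Fin.ext far_root.2.2.symm]; exact hxz⟩

theorem exists_zero_to (z : Pt) : ∃ g ∈ grp, g (bpt 0) = z := by
  obtain ⟨⟨g, hg⟩, h⟩ : z ∈ orbit grp (bpt 0) := orbit_zero ▸ Set.mem_univ z
  exact ⟨g, hg, h⟩

theorem adj_smul {g : Equiv.Perm Pt} (hg : g ∈ grp) (p q : Pt) : Adj (g p) (g q) ↔ Adj p q := by
  constructor
  · rintro ⟨k, hk, h1, h2⟩
    exact ⟨g⁻¹ * k, mul_mem (inv_mem hg) hk, by simp [h1], by simp [h2]⟩
  · rintro ⟨k, hk, rfl, rfl⟩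
    exact ⟨g * k, mul_mem hg hk, rfl, rfl⟩

theorem adj_zero (q : Pt) : Adj (bpt 0) q ↔ InB q := by
  constructor
  · rintro ⟨g, hg, h0, rfl⟩
    exact (inB_smul (mem_stab_one.2 ⟨hg, h0⟩) _).2 one_inB
  · intro hq
    obtain ⟨s, hs, rfl⟩ := exists_one_to hq
    exact ⟨s, hs.1, hs.2 0 Nat.one_pos, rfl⟩

theorem adj_irrefl (p : Pt) : ¬ Adj p p := by
  rintro ⟨g, -, h0, h1⟩
  have := g.injective (h0.trans h1.symm)
  exact not_inB_zero (this ▸ one_inB)

theorem adj_symm {p q : Pt} (h : Adj p q) : Adj q p := by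
  obtain ⟨g, hg, rfl, rfl⟩ := h
  have hs := swap_ok
  simp only [swapOK, Bool.and_eq_true, List.all_eq_true, Nat.blt_eq, Nat.beq_eq] at hs
  obtain ⟨⟨hl, h0⟩, h1⟩ := hs
  refine ⟨g * wordVal prm swapWord, mul_mem hg (wordVal_mem_grp hl), ?_, ?_⟩ <;>
    rw [Equiv.Perm.mul_apply] <;> congr 1 <;> refine Fin.ext ?_ <;> rw [prm_walk hl] <;> assumption

theorem adj_comm (p q : Pt) : Adj p q ↔ Adj q p := ⟨adj_symm, adj_symm⟩

/-- The rows are the adjacency. -/
theorem adj_row {i : ℕ} (hi : i < 12) {p : Pt} (hp : p.1 = rowPt i) (q : Pt) :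
    Adj p q ↔ bit (rowMask i) q = true := by
  have hh := List.all_eq_true.1 rowHead_ok i (List.mem_range.2 hi)
  simp only [Bool.and_eq_true, List.all_eq_true, Nat.blt_eq, Nat.beq_eq] at hh
  obtain ⟨⟨-, hl⟩, h0⟩ := hh
  have key : onPts (rowFn i) 4060 0 = true := by
    interval_cases i
    exacts [row_ok0, row_ok1, row_ok2, row_ok3, row_ok4, row_ok5, row_ok6, row_ok7, row_ok8, row_ok9,
      row_ok10, row_ok11]
  have h := onPts_fin key q
  simp only [rowFn, force_eq] at h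
  set W := wordVal prm (rowWord i) with hW
  have hWp : W p = bpt 0 := Fin.ext (by rw [hW, prm_walk hl, hp]; exact h0)
  rw [← adj_smul (wordVal_mem_grp hl) p q, hWp, adj_zero, InB, prm_walk hl]
  cases hb : bit cls1.mask (twalk tab 3 (rowWord i) q.1) <;> rw [hb] at h
  · simp only [cond_false, Bool.not_eq_true'] at h
    simp [h]
  · simp only [cond_true] at h
    simp [h]

theorem bit_land (M M' z : ℕ) : bit (Nat.land M M') z = (bit M z && bit M' z) := by
  have e : ∀ N : ℕ, bit N z = N.testBit z := fun N => by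
    have h := Nat.toNat_testBit N z
    rw [bit, show Nat.land (Nat.shiftRight N z) 1 = (N >>> z) &&& 1 from rfl, Nat.and_one_is_mod,
      Nat.shiftRight_eq_div_pow]
    cases hb : N.testBit z <;> rw [hb] at h <;> simp at h <;> rw [← h] <;> rfl
  rw [e, e, e]
  exact Nat.testBit_land M M' z

theorem card_filter_bit {P : Pt → Prop} [DecidablePred P] (M : ℕ) (h : ∀ z, P z ↔ bit M z = true) :
    (univ.filter P).card = maskCount M 4060 := by
  rw [← maskSet_ncard (M := M) rfl, ← Set.ncard_coe_finset]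
  congr 1
  ext z
  simp [maskSet, h]

theorem card_inB : (univ.filter fun z : Pt => InB z).card = 1755 :=
  (card_filter_bit _ fun _ => Iff.rfl).trans (cls1_ok.count.trans (by decide +kernel))

theorem card_inC : (univ.filter fun z : Pt => InC z).card = 2304 :=
  (card_filter_bit _ fun _ => Iff.rfl).trans (clsFar_ok.count.trans (by decide +kernel))

/-- Counting a union of parts. -/
theorem card_split {n : ℕ} (msk size : Fin n → ℕ) (hsize : ∀ i, maskCount (msk i) 4060 = size i)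
    (hdis : ∀ (z : Pt) (i j : Fin n), bit (msk i) z = true → bit (msk j) z = true → i = j)
    (S P : Pt → Prop) (flag : Fin n → Prop) (hS : ∀ z, S z ↔ ∃ i, bit (msk i) z = true)
    (hP : ∀ (z : Pt) (i : Fin n), bit (msk i) z = true → (P z ↔ flag i)) :
    (univ.filter fun z => S z ∧ P z).card = ∑ i, if flag i then size i else 0 := by
  have e : (univ.filter fun z => S z ∧ P z) =
      (univ.filter flag).biUnion fun i => univ.filter fun z : Pt => bit (msk i) z = true := by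
    ext z
    simp only [mem_filter, mem_univ, true_and, mem_biUnion]
    constructor
    · rintro ⟨hs, hp⟩
      obtain ⟨i, hi⟩ := (hS z).1 hs
      exact ⟨i, (hP z i hi).1 hp, hi⟩
    · rintro ⟨i, hf, hi⟩
      exact ⟨(hS z).2 ⟨i, hi⟩, (hP z i hi).2 hf⟩
  rw [e, card_biUnion]
  · rw [sum_filter]
    refine sum_congr rfl fun i _ => ?_
    rw [card_filter_bit (msk i) fun _ => Iff.rfl, hsize]
  · intro i _ j _ hij
    simp only [Function.onFun, disjoint_left, mem_filter, mem_univ, true_and]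
    exact fun z hi hj => hij (hdis z i j hi hj)

theorem kPart_ok : ∀ i : Fin 8, LvlOK (kPart i) := by
  intro i
  fin_cases i
  exacts [kPart0_ok, kPart1_ok, kPart2_ok, kPart3_ok, kPart4_ok, kPart5_ok, kPart6_ok, kPart7_ok]

theorem kPart_words {i : Fin 8} {g : Equiv.Perm Pt} (hg : g ∈ wgrp (kPart i)) :
    g ∈ stab 1 ∧ g (bpt 2) = bpt 2 := by
  have hle := wgrp_le (D := kPart i) (kPart_ok i).words (j := 1) le_rfl
  refine ⟨hle hg, ?_⟩
  have : wgrp (kPart i) ≤ stabilizer (Equiv.Perm Pt) (bpt 2) := by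
    refine (Subgroup.closure_le _).2 ?_
    rintro _ ⟨w, hw, rfl⟩
    have hf := List.all_eq_true.1 kFix_ok w hw
    rw [Nat.beq_eq] at hf
    exact Fin.ext ((prm_walk (words_facts (kPart_ok i).words hw).1 _).trans hf)
  exact this hg

/-- The root of a part. -/
def kRoot (i : Fin 8) : Pt := ⟨(kPart i).root, (kPart_ok i).root_lt⟩

theorem kPart_conn {i : Fin 8} {z : Pt} (hz : bit (kPart i).mask z = true) :
    ∃ k ∈ stab 1, k (bpt 2) = bpt 2 ∧ k (kRoot i) = z := by
  obtain ⟨x, hx, hxz⟩ := (kPart_ok i).root_conn hz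
  exact ⟨x, (kPart_words hx).1, (kPart_words hx).2, hxz⟩

theorem kPart_cover (z : Pt) (hz : z ≠ bpt 0) : ∃ i : Fin 8, bit (kPart i).mask z = true := by
  have h := onPts_fin kCover_ok z
  have hne : Nat.beq z.1 (bp 0) = false :=
    Bool.eq_false_iff.2 fun he => hz (Fin.ext (Nat.beq_eq.mp he))
  simp only [kCoverFn, hne, cond_false, Nat.beq_eq] at h
  obtain ⟨i, hi, hb⟩ := List.countP_pos_iff.1 (by rw [h]; exact Nat.one_pos)
  exact ⟨⟨i, List.mem_range.1 hi⟩, hb⟩

theorem kPart_disjoint (z : Pt) (i j : Fin 8) (hi : bit (kPart i).mask z = true)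
    (hj : bit (kPart j).mask z = true) : i = j := by
  by_contra hne
  have h := onPts_fin kCover_ok z
  by_cases h0 : z = bpt 0
  · subst h0
    simp only [kCoverFn, show Nat.beq (bpt 0).1 (bp 0) = true from Nat.beq_eq.mpr rfl, cond_true,
      List.all_eq_true, List.mem_range, Bool.not_eq_true'] at h
    exact Bool.noConfusion ((h i i.2).symm.trans hi)
  · have hne0 : Nat.beq z.1 (bp 0) = false :=
      Bool.eq_false_iff.2 fun he => h0 (Fin.ext (Nat.beq_eq.mp he))
    simp only [kCoverFn, hne0, cond_false, Nat.beq_eq, List.countP_eq_length_filter] at h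
    obtain ⟨x, hx⟩ := List.length_eq_one_iff.1 h
    have h1 : (i : ℕ) ∈ (List.range 8).filter fun i => bit (kPart i).mask z :=
      List.mem_filter.2 ⟨List.mem_range.2 i.2, hi⟩
    have h2 : (j : ℕ) ∈ (List.range 8).filter fun i => bit (kPart i).mask z :=
      List.mem_filter.2 ⟨List.mem_range.2 j.2, hj⟩
    rw [hx, List.mem_singleton] at h1 h2
    exact hne (Fin.ext (h1.trans h2.symm))

end Cfsg.Lib.Ru4060.Recog
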