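import Cfsg.Agent.Lib.Ru4060.Recog.GraphData
import Cfsg.Agent.Lib.Ru4060.Tits

/-!
# Suborbits and rows: the checks
-/

set_option autoImplicit false
set_option linter.style.longLine false
set_option maxRecDepth 100000

namespace Cfsg.Lib.Ru4060.Recog

open Cfsg.Lib.CosetEnum

/-- A check on all points from `z` on. -/
noncomputable def onPts (f : ℕ → Bool) : ℕ → ℕ → Bool
  | 0, _ => true
  | m + 1, z => force z fun z => f z && onPts f m (Nat.add z 1)

theorem onPts_get {f : ℕ → Bool} : ∀ {m i : ℕ}, onPts f m i = true → ∀ z, i ≤ z → z < i + m → f z = true
  | 0, i, _, z, h1, h2 => by omega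
  | m + 1, i, h, z, h1, h2 => by
    rw [onPts, force_eq, Bool.and_eq_true] at h
    rcases Nat.eq_or_lt_of_le h1 with e | e
    · exact e ▸ h.1
    · exact onPts_get (i := i + 1) h.2 z e (by omega)

theorem onPts_fin {f : ℕ → Bool} (h : onPts f 4060 0 = true) (z : Fin 4060) : f z = true :=
  onPts_get h z (Nat.zero_le _) (by rw [Nat.zero_add]; exact z.2)

/-- A listed point. -/
def rowPt (i : ℕ) : ℕ := rowPts.getD i 0

/-- The word from a listed point to the first point. -/
def rowWord (i : ℕ) : List ℕ := rowWords.getD i []

/-- The neighbours of a listed point. -/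
def rowMask (i : ℕ) : ℕ := rowMasks.getD i 0

/-- A row is the first suborbit moved. -/
noncomputable def rowFn (i z : ℕ) : Bool :=
  force (twalk tab 3 (rowWord i) z) fun t =>
    cond (bit cls1.mask t) (bit (rowMask i) z) (!(bit (rowMask i) z))

/-- The words of the rows lead to the first point. -/
noncomputable def rowHead : Bool :=
  (List.range 12).all fun i => Nat.blt (rowPt i) 4060 && ((rowWord i).all fun g => Nat.blt g 3) &&
    Nat.beq (twalk tab 3 (rowWord i) (rowPt i)) (bp 0)

theorem rowHead_ok : rowHead = true := by decide +kernel

theorem row_ok0 : onPts (rowFn 0) 4060 0 = true := by decide +kernel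

theorem row_ok1 : onPts (rowFn 1) 4060 0 = true := by decide +kernel

theorem row_ok2 : onPts (rowFn 2) 4060 0 = true := by decide +kernel

theorem row_ok3 : onPts (rowFn 3) 4060 0 = true := by decide +kernel

theorem row_ok4 : onPts (rowFn 4) 4060 0 = true := by decide +kernel

theorem row_ok5 : onPts (rowFn 5) 4060 0 = true := by decide +kernel

theorem row_ok6 : onPts (rowFn 6) 4060 0 = true := by decide +kernel

theorem row_ok7 : onPts (rowFn 7) 4060 0 = true := by decide +kernel

theorem row_ok8 : onPts (rowFn 8) 4060 0 = true := by decide +kernel

theorem row_ok9 : onPts (rowFn 9) 4060 0 = true := by decide +kernel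

theorem row_ok10 : onPts (rowFn 10) 4060 0 = true := by decide +kernel

theorem row_ok11 : onPts (rowFn 11) 4060 0 = true := by decide +kernel

/-- A word exchanging the first two points. -/
noncomputable def swapOK : Bool :=
  (swapWord.all fun g => Nat.blt g 3) && Nat.beq (twalk tab 3 swapWord (bp 0)) (bp 1) &&
    Nat.beq (twalk tab 3 swapWord (bp 1)) (bp 0)

theorem swap_ok : swapOK = true := by decide +kernel

/-- A part for the stabiliser of two points. -/
def kPart (i : ℕ) : Lvl := ⟨kRoots.getD i 0, 1, kWords, kMasks.getD i 0, kBack, kDepth, kSizes.getD i 0⟩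

/-- The words fix the second point and the parts cover the other points disjointly. -/
noncomputable def kCoverFn (z : ℕ) : Bool :=
  cond (Nat.beq z (bp 0)) ((List.range 8).all fun i => !(bit (kPart i).mask z))
    (Nat.beq ((List.range 8).countP fun i => bit (kPart i).mask z) 1)

theorem kFix_ok : (kWords.all fun w => Nat.beq (twalk tab 3 w (bp 2)) (bp 2)) = true := by decide +kernel

theorem kCover_ok : onPts kCoverFn 4060 0 = true := by decide +kernel

theorem kPart0_ok : LvlOK (kPart 0) :=
  { words := by decide +kernel, conn := by decide +kernel, count := by decide +kernel, root_lt := by decide +kernel }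

theorem kPart1_ok : LvlOK (kPart 1) :=
  { words := by decide +kernel, conn := by decide +kernel, count := by decide +kernel, root_lt := by decide +kernel }

theorem kPart2_ok : LvlOK (kPart 2) :=
  { words := by decide +kernel, conn := by decide +kernel, count := by decide +kernel, root_lt := by decide +kernel }

theorem kPart3_ok : LvlOK (kPart 3) :=
  { words := by decide +kernel, conn := by decide +kernel, count := by decide +kernel, root_lt := by decide +kernel }

theorem kPart4_ok : LvlOK (kPart 4) :=
  { words := by decide +kernel, conn := by decide +kernel, count := by decide +kernel, root_lt := by decide +kernel }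

theorem kPart5_ok : LvlOK (kPart 5) :=
  { words := by decide +kernel, conn := by decide +kernel, count := by decide +kernel, root_lt := by decide +kernel }

theorem kPart6_ok : LvlOK (kPart 6) :=
  { words := by decide +kernel, conn := by decide +kernel, count := by decide +kernel, root_lt := by decide +kernel }

theorem kPart7_ok : LvlOK (kPart 7) :=
  { words := by decide +kernel, conn := by decide +kernel, count := by decide +kernel, root_lt := by decide +kernel }

end Cfsg.Lib.Ru4060.Recog
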