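import Cfsg.Agent.Lib.Ru4060.OutCheck
import Cfsg.Agent.Lib.Ru4060.Recog.GraphCheck
import Cfsg.Agent.Lib.Ru4060.Recog.FarData

/-!
# The element of order 13 and the normaliser of the element of order 4: the checks
-/

set_option autoImplicit false
set_option linter.style.longLine false
set_option maxRecDepth 100000

namespace Cfsg.Lib.Ru4060.Recog

open Cfsg.Lib.CosetEnum Cfsg.Lib.Ru4060.OutRu

/-- Letters and the first point. -/
noncomputable def letOK (w : List ℕ) : Bool :=
  (w.all fun g => Nat.blt g 3) && Nat.beq (twalk tab 3 w (bp 0)) (bp 0)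

theorem farWords_ok : (letOK xWord && letOK fourWord && eightWords.all letOK && tripleWords.all letOK) = true := by
  decide +kernel

theorem tabX_ok : allPts (tabFn tabX xWord) 4060 0 = true := by decide +kernel

theorem coverX_ok : allPts (fun z => !(bit cls1.mask z) || coverFn tabX coverX repsX 13 z) 4060 0 = true := by
  decide +kernel

/-- A representative is the second point after a word, and only the first keeps the pattern. -/
noncomputable def caseX (a : ℕ) : Bool :=
  force (repsX.getD a 0) fun r => force (missX.getD a 0) fun j => (fun w : List ℕ =>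
    Nat.blt r 4060 && letOK w && Nat.beq (twalk tab 3 w r) (bp 1) &&
      cond (Nat.beq j 0) (Nat.beq r (bp 1))
        (cond (bit (rowMask 0) (twalk tab 3 w (tpow tabX j r)))
          (!(bit (rowMask 0) (tpow tabX j (bp 1)))) (bit (rowMask 0) (tpow tabX j (bp 1))))) (backX.getD a [])

theorem casesX_ok : (List.range repsX.length).all caseX = true := by decide +kernel

theorem tgX_eq : ((List.range 3).map fun b => sigB tabX (rowMask 0) 13 (bp (b + 2))) = tgX := by decide +kernel

/-- The later base points are alone with their patterns. -/
noncomputable def sepX (z : ℕ) : Bool :=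
  Nat.beq z (bp 0) || force (sigB tabX (rowMask 0) 13 z) fun s =>
    (List.range 3).all fun b => !(Nat.beq s (tgX.getD b 0)) || Nat.beq z (bp (Nat.add b 2))

theorem sepX_ok : allPts sepX 4060 0 = true := by decide +kernel

/-- Repeated walking. -/
noncomputable def walkPow (w : List ℕ) : ℕ → ℕ → ℕ
  | 0, z => z
  | n + 1, z => force (twalk tab 3 w z) fun y => walkPow w n y

/-- Two words agree on the five base points. -/
noncomputable def sameB (v w : List ℕ) : Bool :=
  (List.range 5).all fun b => Nat.beq (twalk tab 3 v (bp b)) (twalk tab 3 w (bp b))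

theorem xu_ok : (sameB (List.replicate 13 xWord).flatten [] && !(Nat.beq (twalk tab 3 xWord (bp 1)) (bp 1)) &&
    sameB (List.replicate 4 fourWord).flatten [] && !(sameB (fourWord ++ fourWord) []) &&
    sameB (xWord ++ fourWord) (fourWord ++ (List.replicate 5 xWord).flatten)) = true := by decide +kernel

theorem fixU_ok : allPts (fun z => !(Nat.beq (twalk tab 3 fourWord z) z) ||
    ((!(bit cls1.mask z) || fixNear.any (Nat.beq z)) && (!(bit clsFar.mask z) || fixFar.any (Nat.beq z))))
      4060 0 = true := by decide +kernel

/-- The two further points. -/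
noncomputable def farHead : Bool :=
  (fixNear.all fun z => Nat.blt z 4060 && Nat.beq (twalk tab 3 fourWord z) z && bit cls1.mask z) &&
    (fixFar.all fun z => Nat.blt z 4060 && Nat.beq (twalk tab 3 fourWord z) z && bit clsFar.mask z) &&
    (fixThree.all fun z => Nat.blt z 4060 && Nat.beq (twalk tab 3 fourWord z) z &&
      Nat.beq (twalk tab 3 xWord z) z && bit clsFar.mask z) &&
    Nat.beq (fixNear.getD 0 0) (bp 1) && Nat.beq (fixNear.getD 2 0) tsub1.root &&
    Nat.beq lvlFar.root (fixThree.getD 0 0) && Nat.beq fixNear.length 3 && Nat.beq fixFar.length 16 &&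
    Nat.beq fixThree.length 3 &&
    (lvlFar.words.all fun w => Nat.beq (twalk tab 3 w tsub1.root) tsub1.root)

theorem farHead_ok : farHead = true := by decide +kernel

theorem lvlFar_ok : LvlOK lvlFar :=
  { words := by decide +kernel, conn := by decide +kernel, count := by decide +kernel, root_lt := by decide +kernel }

theorem lvlFar_facts : lvlFar.fix = 2 ∧ lvlFar.size = 256 ∧ tsub1.size = 10 ∧ tsub1.fix = 2 := by decide +kernel

/-- The eight elements are different and fix the three points. -/
noncomputable def eightOK : Bool :=
  Nat.beq eightWords.length 8 &&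
    (eightWords.all fun w => Nat.beq (twalk tab 3 w (bp 1)) (bp 1) &&
      Nat.beq (twalk tab 3 w tsub1.root) tsub1.root && Nat.beq (twalk tab 3 w lvlFar.root) lvlFar.root) &&
    (List.range 8).all fun i => (List.range 8).all fun j =>
      Nat.beq i j || !(sameB (eightWords.getD i []) (eightWords.getD j []))

theorem eight_ok : eightOK = true := by decide +kernel

/-- The index of a triple of fixed points. -/
def tripleIdx (a b c : ℕ) : ℕ := (2 * a + if b < a then b else b - 1) * 16 + c

/-- The elements carry the three points to each triple. -/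
noncomputable def tripleOK : Bool :=
  Nat.beq tripleWords.length 96 &&
  (List.range 3).all fun a => (List.range 3).all fun b => (List.range 16).all fun c =>
    Nat.beq a b || (force (tripleIdx a b c) fun k => Nat.blt k 96 &&
      (fun w : List ℕ => Nat.beq (twalk tab 3 w (bp 1)) (fixNear.getD a 0) &&
        Nat.beq (twalk tab 3 w tsub1.root) (fixNear.getD b 0) &&
        Nat.beq (twalk tab 3 w lvlFar.root) (fixFar.getD c 0)) (tripleWords.getD k []))

theorem triple_ok : tripleOK = true := by decide +kernel

/-- A candidate for a further element. -/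
def candW (k : ℕ) : List ℕ := eightWords.getD (k % 8) [] ++ tripleWords.getD (k / 8) []

/-- A word in the three elements. -/
def subX (t : List ℕ) (w : List ℕ) : List ℕ := w.flatMap fun l => [xWord, fourWord, t].getD l []

/-- A certificate: the candidate does not normalise the element of order 4, fixes one of the three points, normalises
the element of order 13, or gives an element of order divisible by 16. -/
noncomputable def certFn (k : ℕ) : Bool :=
  (fun t : List ℕ =>
    match certs.getD k [] with
    | [0] => !(sameB (fourWord ++ t) (t ++ fourWord)) && !(sameB (fourWord ++ t) (t ++ (List.replicate 3 fourWord).flatten))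
    | [1, i] => Nat.blt i 3 && Nat.beq (twalk tab 3 t (fixThree.getD i 0)) (fixThree.getD i 0)
    | [2, i] => sameB (xWord ++ t) (t ++ (List.replicate i xWord).flatten)
    | 3 :: z :: w => Nat.blt z 4060 && (w.all fun l => Nat.blt l 3) && (fun W : List ℕ =>
        !(Nat.beq (walkPow W 8 z) z) && Nat.beq (walkPow W 16 z) z) (subX t w)
    | _ => false) (candW k)

theorem cert0_ok : ((List.range' 0 128).all certFn) = true := by decide +kernel

theorem cert1_ok : ((List.range' 128 128).all certFn) = true := by decide +kernel

theorem cert2_ok : ((List.range' 256 128).all certFn) = true := by decide +kernel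

theorem cert3_ok : ((List.range' 384 128).all certFn) = true := by decide +kernel

theorem cert4_ok : ((List.range' 512 128).all certFn) = true := by decide +kernel

theorem cert5_ok : ((List.range' 640 128).all certFn) = true := by decide +kernel

theorem cert_ok {k : ℕ} (hk : k < 768) : certFn k = true := by
  rcases (by omega : k < 128 ∨ (128 ≤ k ∧ k < 256) ∨ (256 ≤ k ∧ k < 384) ∨ (384 ≤ k ∧ k < 512) ∨
      (512 ≤ k ∧ k < 640) ∨ (640 ≤ k ∧ k < 768)) with h | h | h | h | h | h
  · exact List.all_eq_true.1 cert0_ok k (List.mem_range'_1.2 ⟨k.zero_le, by omega⟩)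
  · exact List.all_eq_true.1 cert1_ok k (List.mem_range'_1.2 ⟨h.1, by omega⟩)
  · exact List.all_eq_true.1 cert2_ok k (List.mem_range'_1.2 ⟨h.1, by omega⟩)
  · exact List.all_eq_true.1 cert3_ok k (List.mem_range'_1.2 ⟨h.1, by omega⟩)
  · exact List.all_eq_true.1 cert4_ok k (List.mem_range'_1.2 ⟨h.1, by omega⟩)
  · exact List.all_eq_true.1 cert5_ok k (List.mem_range'_1.2 ⟨h.1, by omega⟩)

end Cfsg.Lib.Ru4060.Recog
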