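import Mathlib.GroupTheory.Sylow
import Mathlib.GroupTheory.Transfer
import Mathlib.GroupTheory.Nilpotent
import Mathlib.GroupTheory.SpecificGroups.Cyclic
import Mathlib.Tactic

/-!
# Subgroups of order 15600 with a self-centralising element of order 13

Such a subgroup has 300 Sylow 13-subgroups; it contains an element of order 4 acting as fifth powers, and a
further element normalising that one.
-/

set_option autoImplicit false
set_option linter.style.longLine false

namespace Cfsg.Lib.Ru4060.FarGroup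

open Subgroup
open scoped Classical

variable {S : Type*} [Group S] [Finite S]

/-- The hypotheses on the two elements and the subgroup. -/
structure Hyp (x u : S) (K : Subgroup S) : Prop where
  hx : orderOf x = 13
  hu : orderOf u = 4
  rel : u * x * u⁻¹ = x ^ 5
  cent : ∀ c : S, Commute c x → ∃ i : ℕ, c = x ^ i
  card : Nat.card ↥K = 15600
  mem : x ∈ K

theorem conj_pow {x g : S} {k : ℕ} (h : g * x * g⁻¹ = x ^ k) :
    ∀ n : ℕ, g ^ n * x * (g ^ n)⁻¹ = x ^ k ^ n
  | 0 => by simp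
  | n + 1 => by
    rw [pow_succ', mul_inv_rev, show g * g ^ n * x * ((g ^ n)⁻¹ * g⁻¹) = g * (g ^ n * x * (g ^ n)⁻¹) * g⁻¹ by group,
      conj_pow h n, ← conj_pow', h, ← pow_mul, ← pow_succ']
where
  conj_pow' {x g : S} {m : ℕ} : (g * x * g⁻¹) ^ m = g * x ^ m * g⁻¹ := _root_.conj_pow

namespace Hyp

variable {x u : S} {K : Subgroup S} (H : Hyp x u K)
include H

theorem mem_norm {g : S} : g ∈ normalizer (zpowers x : Set S) ↔ g * x * g⁻¹ ∈ zpowers x := by
  constructor
  · exact fun h => ((mem_normalizer_iff).1 h x).1 (mem_zpowers x)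
  · intro h
    refine mem_normalizer_fintype (S := (zpowers x : Set S)) ?_
    rintro _ ⟨i, rfl⟩
    rw [← conj_zpow]
    exact zpow_mem h i

theorem exists_exp {g : S} (hg : g * x * g⁻¹ ∈ zpowers x) : ∃ k < 13, g * x * g⁻¹ = x ^ k := by
  obtain ⟨k, hk⟩ := (isOfFinOrder_of_finite x).mem_powers_iff_mem_zpowers.2 hg
  exact ⟨k % 13, Nat.mod_lt _ (by norm_num), by rw [← H.hx, pow_mod_orderOf]; exact hk.symm⟩

/-- In a subgroup containing the Sylow 13-subgroup, the count of its conjugates. -/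
theorem count {L : Subgroup S} (hL : x ∈ L) (hLK : L ≤ K) :
    ∃ n, n % 13 = 1 ∧ n ∣ Nat.card ↥L / 13 ∧ Nat.card ↥L = n * Nat.card ↥(L ⊓ normalizer (zpowers x : Set S)) := by
  haveI : Fact (Nat.Prime 13) := ⟨by norm_num⟩
  have hdvd : Nat.card ↥L ∣ 15600 := H.card ▸ card_dvd_of_le hLK
  set X : Subgroup ↥L := (zpowers x).subgroupOf L with hX
  have hXc : Nat.card ↥X = 13 := by
    rw [hX, Nat.card_congr (subgroupOfEquivOfLe (zpowers_le.2 hL)).toEquiv, Nat.card_zpowers, H.hx]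
  have hnd : ¬ 13 ^ 2 ∣ Nat.card ↥L := fun h => by have := h.trans hdvd; norm_num at this
  have hP : IsPGroup 13 ↥X := IsPGroup.of_card (n := 1) (by rw [hXc, pow_one])
  obtain ⟨P, hXP⟩ := hP.exists_le_sylow
  have hPX : X = (P : Subgroup ↥L) := by
    refine eq_of_le_of_card_ge hXP ?_
    obtain ⟨e, he⟩ := P.isPGroup'.exists_card_eq
    rw [hXc, he]
    rcases Nat.lt_or_ge e 2 with h | h
    · interval_cases e <;> norm_num
    · exact absurd ((pow_dvd_pow 13 h).trans (he ▸ card_subgroup_dvd_card _)) hnd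
  have hidx : X.index = Nat.card ↥L / 13 := by
    rw [← X.card_mul_index, hXc, Nat.mul_div_cancel_left _ (by norm_num)]
  have hN : (normalizer (X : Set ↥L)).index * Nat.card ↥(L ⊓ normalizer (zpowers x : Set S)) = Nat.card ↥L := by
    rw [← (normalizer (X : Set ↥L)).card_mul_index, mul_comm]
    congr 1
    rw [hX, ← subgroupOf_normalizer_eq (zpowers_le.2 hL), inf_comm, ← inf_subgroupOf_right,
      Nat.card_congr (subgroupOfEquivOfLe inf_le_right).toEquiv]
  refine ⟨Nat.card (Sylow 13 ↥L), card_sylow_modEq_one (p := 13) (G := ↥L), ?_, ?_⟩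
  · rw [← hidx, hPX]; exact P.card_dvd_index
  · rw [P.card_eq_index_normalizer, show ((P : Set ↥L)) = (X : Set ↥L) by rw [hPX]; rfl]; exact hN.symm

theorem norm_le : Nat.card ↥(K ⊓ normalizer (zpowers x : Set S)) ≤ 13 * 12 ∧
    ∀ g ∈ K ⊓ normalizer (zpowers x : Set S), ∃ k, 1 ≤ k ∧ k < 13 ∧ g * x * g⁻¹ = x ^ k := by
  set N := K ⊓ normalizer (zpowers x : Set S)
  have hex : ∀ g ∈ N, ∃ k, 1 ≤ k ∧ k < 13 ∧ g * x * g⁻¹ = x ^ k := by
    intro g hg
    obtain ⟨k, hk, e⟩ := H.exists_exp (H.mem_norm.1 hg.2)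
    refine ⟨k, Nat.one_le_iff_ne_zero.2 ?_, hk, e⟩
    rintro rfl
    have hx1 : x = 1 := by
      rw [pow_zero] at e
      calc x = g⁻¹ * (g * x * g⁻¹) * g := by group
        _ = 1 := by rw [e]; group
    simpa [hx1] using H.hx
  refine ⟨?_, hex⟩
  choose! k hk1 hk2 hk3 using hex
  haveI := Fintype.ofFinite S
  rw [Nat.card_eq_fintype_card, Fintype.card_subtype]
  refine (Finset.card_le_mul_card_image (f := k) _ 13 fun a ha => ?_).trans (Nat.mul_le_mul_left _ ?_)
  · obtain ⟨g₀, hg₀, rfl⟩ := Finset.mem_image.1 ha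
    simp only [Finset.mem_filter, Finset.mem_univ, true_and] at hg₀
    calc ((Finset.univ.filter fun g => g ∈ N).filter fun g => k g = k g₀).card
        ≤ ((Finset.range 13).image fun i => g₀ * x ^ i).card := by
          refine Finset.card_le_card fun g hg => ?_
          simp only [Finset.mem_filter, Finset.mem_univ, true_and] at hg
          have hc : Commute (g₀⁻¹ * g) x := by
            have e : g * x * g⁻¹ = g₀ * x * g₀⁻¹ := by rw [hk3 g hg.1, hk3 g₀ hg₀, hg.2]
            show g₀⁻¹ * g * x = x * (g₀⁻¹ * g)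
            calc g₀⁻¹ * g * x = g₀⁻¹ * (g * x * g⁻¹) * g := by group
              _ = x * (g₀⁻¹ * g) := by rw [e]; group
          obtain ⟨i, hi⟩ := H.cent _ hc
          refine Finset.mem_image.2 ⟨i % 13, Finset.mem_range.2 (Nat.mod_lt _ (by norm_num)), ?_⟩
          rw [← H.hx, pow_mod_orderOf, ← hi, mul_inv_cancel_left]
      _ ≤ 13 := Finset.card_image_le.trans (le_of_eq (Finset.card_range 13))
  · refine (Finset.card_le_card (t := Finset.Icc 1 12) fun a ha => ?_).trans (le_of_eq (Nat.card_Icc 1 12))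
    obtain ⟨g, hg, rfl⟩ := Finset.mem_image.1 ha
    simp only [Finset.mem_filter, Finset.mem_univ, true_and] at hg
    exact Finset.mem_Icc.2 ⟨hk1 g hg, by have := hk2 g hg; omega⟩

theorem norm_card : Nat.card ↥(K ⊓ normalizer (zpowers x : Set S)) = 52 := by
  obtain ⟨n, h1, h2, h3⟩ := H.count H.mem le_rfl
  have hle := H.norm_le.1
  rw [H.card] at h2 h3
  have hn : n ∈ (Nat.divisors 1200).filter fun n => n % 13 = 1 :=
    Finset.mem_filter.2 ⟨Nat.mem_divisors.2 ⟨by simpa using h2, by norm_num⟩, h1⟩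
  rw [show ((Nat.divisors 1200).filter fun n => n % 13 = 1) = {1, 40, 300} by decide +kernel] at hn
  simp only [Finset.mem_insert, Finset.mem_singleton] at hn
  rcases hn with rfl | rfl | rfl <;> omega

theorem u_mem : u ∈ K := by
  set N := K ⊓ normalizer (zpowers x : Set S)
  obtain ⟨-, hex⟩ := H.norm_le
  suffices h : ∃ g ∈ N, g * x * g⁻¹ = x ^ 5 by
    obtain ⟨g, hg, e⟩ := h
    have hc : Commute (u⁻¹ * g) x := by
      show u⁻¹ * g * x = x * (u⁻¹ * g)
      calc u⁻¹ * g * x = u⁻¹ * (g * x * g⁻¹) * g := by group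
        _ = x * (u⁻¹ * g) := by rw [e, ← H.rel]; group
    obtain ⟨i, hi⟩ := H.cent _ hc
    rw [show u = g * (x ^ i)⁻¹ by rw [← hi]; group]
    exact mul_mem hg.1 (inv_mem (pow_mem H.mem i))
  by_contra hno
  push Not at hno
  choose! k hk1 hk2 hk3 using hex
  have hk4 : ∀ g ∈ N, k g ∈ ({1, 8, 12} : Finset ℕ) := by
    intro g hg
    have h52 : g ^ 52 = 1 := by
      have := pow_card_eq_one' (G := ↥N) (x := ⟨g, hg⟩)
      rw [H.norm_card] at this
      exact congrArg Subtype.val this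
    have e := conj_pow (hk3 g hg) 52
    rw [h52, one_mul, inv_one, mul_one] at e
    have hmod : k g ^ 52 % 13 = 1 := by
      have := pow_eq_pow_iff_modEq.1 ((pow_one x).trans e)
      rw [H.hx] at this
      exact this.symm
    have h5 : k g ≠ 5 := fun h => hno g hg (h ▸ hk3 g hg)
    have hall : ∀ a < 13, a ^ 52 % 13 = 1 → a ≠ 5 → a ∈ ({1, 8, 12} : Finset ℕ) := by decide +kernel
    exact hall _ (hk2 g hg) hmod h5
  haveI := Fintype.ofFinite S
  have hc := H.norm_card
  rw [Nat.card_eq_fintype_card, Fintype.card_subtype] at hc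
  have hle := Finset.card_le_mul_card_image (f := k) (Finset.univ.filter fun g => g ∈ N) 13 fun a ha => by
    obtain ⟨g₀, hg₀, rfl⟩ := Finset.mem_image.1 ha
    simp only [Finset.mem_filter, Finset.mem_univ, true_and] at hg₀
    refine le_trans (Finset.card_le_card (t := (Finset.range 13).image fun i => g₀ * x ^ i) fun g hg => ?_)
      (Finset.card_image_le.trans (le_of_eq (Finset.card_range 13)))
    simp only [Finset.mem_filter, Finset.mem_univ, true_and] at hg
    have hc : Commute (g₀⁻¹ * g) x := by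
      have e : g * x * g⁻¹ = g₀ * x * g₀⁻¹ := by rw [hk3 g hg.1, hk3 g₀ hg₀, hg.2]
      show g₀⁻¹ * g * x = x * (g₀⁻¹ * g)
      calc g₀⁻¹ * g * x = g₀⁻¹ * (g * x * g⁻¹) * g := by group
        _ = x * (g₀⁻¹ * g) := by rw [e]; group
    obtain ⟨i, hi⟩ := H.cent _ hc
    refine Finset.mem_image.2 ⟨i % 13, Finset.mem_range.2 (Nat.mod_lt _ (by norm_num)), ?_⟩
    rw [← H.hx, pow_mod_orderOf, ← hi, mul_inv_cancel_left]
  have h3 : ((Finset.univ.filter fun g => g ∈ N).image k).card ≤ 3 := by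
    refine (Finset.card_le_card fun a ha => ?_).trans (le_of_eq (show ({1, 8, 12} : Finset ℕ).card = 3 from rfl))
    obtain ⟨g, hg, rfl⟩ := Finset.mem_image.1 ha
    exact hk4 g (by simpa using hg)
  have : (Finset.univ.filter fun g => g ∈ N).card = 52 := by convert hc
  omega

theorem pow_x_u (j : ℕ) : u ^ j * x * (u ^ j)⁻¹ = x ^ 5 ^ j := conj_pow H.rel j

/-- An element normalising both cyclic subgroups is a power of the second. -/
theorem mem_zpowers_of_normalises {t : S} (ht : t ∈ K) (hX : t * x * t⁻¹ ∈ zpowers x)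
    (hU : t * u * t⁻¹ = u ∨ t * u * t⁻¹ = u ^ 3) : t ∈ zpowers u := by
  have htN : t ∈ K ⊓ normalizer (zpowers x : Set S) := ⟨ht, H.mem_norm.2 hX⟩
  have hu : u ∈ K ⊓ normalizer (zpowers x : Set S) :=
    ⟨H.u_mem, H.mem_norm.2 (by rw [H.rel]; exact pow_mem (mem_zpowers x) 5)⟩
  obtain ⟨k, -, hk, e⟩ := H.norm_le.2 t htN
  have h52 : t ^ 52 = 1 := by
    have := pow_card_eq_one' (G := ↥(K ⊓ normalizer (zpowers x : Set S))) (x := ⟨t, htN⟩)
    rw [H.norm_card] at this
    exact congrArg Subtype.val this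
  have e52 := conj_pow e 52
  rw [h52, one_mul, inv_one, mul_one] at e52
  have hmod : k ^ 52 % 13 = 1 := by
    have := pow_eq_pow_iff_modEq.1 ((pow_one x).trans e52)
    rw [H.hx] at this
    exact this.symm
  have hall : ∀ a < 13, a ^ 52 % 13 = 1 → ∃ j < 4, 5 ^ j % 13 = a := by decide +kernel
  obtain ⟨j, -, hj⟩ := hall k hk hmod
  have ej : u ^ j * x * (u ^ j)⁻¹ = x ^ k := by
    rw [H.pow_x_u, ← hj, ← H.hx, pow_mod_orderOf]
  have hc : Commute ((u ^ j)⁻¹ * t) x := by
    show (u ^ j)⁻¹ * t * x = x * ((u ^ j)⁻¹ * t)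
    calc (u ^ j)⁻¹ * t * x = (u ^ j)⁻¹ * (t * x * t⁻¹) * t := by group
      _ = x * ((u ^ j)⁻¹ * t) := by rw [e, ← ej]; group
  obtain ⟨i, hi⟩ := H.cent _ hc
  have hxu : x ^ i * u * (x ^ i)⁻¹ ∈ zpowers u := by
    have h2 : x ^ i * u * (x ^ i)⁻¹ = (u ^ j)⁻¹ * (t * u * t⁻¹) * u ^ j := by rw [← hi]; group
    rw [h2]
    refine mul_mem (mul_mem (inv_mem (pow_mem (mem_zpowers u) j)) ?_) (pow_mem (mem_zpowers u) j)
    rcases hU with h | h <;> rw [h]
    exacts [mem_zpowers u, pow_mem (mem_zpowers u) 3]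
  have hy : x ^ i * u * (x ^ i)⁻¹ * u⁻¹ ∈ zpowers u := mul_mem hxu (inv_mem (mem_zpowers u))
  have hyx : x ^ i * u * (x ^ i)⁻¹ * u⁻¹ = x ^ i * ((x ^ 5) ^ i)⁻¹ := by
    rw [← H.rel, _root_.conj_pow]; group
  rw [hyx, ← pow_mul] at hy
  have hdis : ∀ y, y ∈ zpowers u → y ∈ zpowers x → y = 1 := fun y h1 h2 => by
    have d1 := orderOf_dvd_of_mem_zpowers h1
    have d2 := orderOf_dvd_of_mem_zpowers h2
    rw [H.hu] at d1
    rw [H.hx] at d2
    exact orderOf_eq_one_iff.1 (Nat.dvd_one.1 (by simpa using Nat.dvd_gcd d1 d2))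
  have h0 := hdis _ hy (mul_mem (pow_mem (mem_zpowers x) _) (inv_mem (pow_mem (mem_zpowers x) _)))
  rw [mul_inv_eq_one, pow_eq_pow_iff_modEq, H.hx] at h0
  have hi0 : x ^ i = 1 := by
    rw [← orderOf_dvd_iff_pow_eq_one, H.hx]
    have : i % 13 = (5 * i) % 13 := h0
    omega
  rw [hi0, inv_mul_eq_one] at hi
  exact hi ▸ pow_mem (mem_zpowers u) j

/-- A subgroup with the two elements and one moving the first subgroup is everything. -/
theorem eq_of_moves {L : Subgroup S} (hLK : L ≤ K) (hxL : x ∈ L) (huL : u ∈ L) {t : S} (htL : t ∈ L)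
    (ht : t * x * t⁻¹ ∉ zpowers x) : L = K := by
  set N := K ⊓ normalizer (zpowers x : Set S)
  have hNL : N ≤ L := by
    intro g hg
    obtain ⟨k, -, hk, e⟩ := H.norm_le.2 g hg
    have h52 : g ^ 52 = 1 := by
      have := pow_card_eq_one' (G := ↥N) (x := ⟨g, hg⟩)
      rw [H.norm_card] at this
      exact congrArg Subtype.val this
    have e52 := conj_pow e 52
    rw [h52, one_mul, inv_one, mul_one] at e52
    have hmod : k ^ 52 % 13 = 1 := by
      have := pow_eq_pow_iff_modEq.1 ((pow_one x).trans e52)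
      rw [H.hx] at this
      exact this.symm
    have hall : ∀ a < 13, a ^ 52 % 13 = 1 → ∃ j < 4, 5 ^ j % 13 = a := by decide +kernel
    obtain ⟨j, -, hj⟩ := hall k hk hmod
    have ej : u ^ j * x * (u ^ j)⁻¹ = x ^ k := by
      rw [H.pow_x_u, ← hj, ← H.hx, pow_mod_orderOf]
    have hc : Commute ((u ^ j)⁻¹ * g) x := by
      show (u ^ j)⁻¹ * g * x = x * ((u ^ j)⁻¹ * g)
      calc (u ^ j)⁻¹ * g * x = (u ^ j)⁻¹ * (g * x * g⁻¹) * g := by group
        _ = x * ((u ^ j)⁻¹ * g) := by rw [e, ← ej]; group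
    obtain ⟨i, hi⟩ := H.cent _ hc
    rw [show g = u ^ j * x ^ i by rw [← hi, mul_inv_cancel_left]]
    exact mul_mem (pow_mem huL j) (pow_mem hxL i)
  have hLN : L ⊓ normalizer (zpowers x : Set S) = N :=
    le_antisymm (inf_le_inf_right _ hLK) (le_inf hNL inf_le_right)
  obtain ⟨n, h1, -, h3⟩ := H.count hxL hLK
  rw [hLN, H.norm_card] at h3
  have hdvd : n ∣ 300 := by
    have := card_dvd_of_le hLK
    rw [h3, H.card, show (15600 : ℕ) = 300 * 52 by norm_num] at this
    exact Nat.dvd_of_mul_dvd_mul_right (by norm_num) this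
  have hn : n ∈ (Nat.divisors 300).filter fun n => n % 13 = 1 :=
    Finset.mem_filter.2 ⟨Nat.mem_divisors.2 ⟨hdvd, by norm_num⟩, h1⟩
  rw [show ((Nat.divisors 300).filter fun n => n % 13 = 1) = {1, 300} by decide +kernel] at hn
  simp only [Finset.mem_insert, Finset.mem_singleton] at hn
  rcases hn with rfl | rfl
  · exfalso
    have hle : L ⊓ normalizer (zpowers x : Set S) = L :=
      eq_of_le_of_card_ge inf_le_left (by rw [h3, hLN, H.norm_card, one_mul])
    exact ht (H.mem_norm.1 (hle.ge htL).2)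
  · exact eq_of_le_of_card_ge hLK (by rw [h3, H.card])

/-- No element has order divisible by 16. -/
theorem not_sixteen_dvd {g : S} (hg : g ∈ K) : ¬ 16 ∣ orderOf g := by
  intro h16
  haveI : Fact (Nat.Prime 2) := ⟨Nat.prime_two⟩
  obtain ⟨m, hm⟩ := h16
  have hm0 : m ≠ 0 := by
    rintro rfl
    rw [mul_zero] at hm
    exact (orderOf_pos g).ne' hm
  set y : ↥K := ⟨g ^ m, pow_mem hg m⟩
  have hy : orderOf y = 16 := by
    rw [← orderOf_coe, orderOf_pow_of_dvd hm0 ⟨16, by rw [hm, mul_comm]⟩, hm, Nat.mul_div_cancel _ (Nat.pos_of_ne_zero hm0)]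
  have hfac : (Nat.card ↥K).factorization 2 = 4 := by
    rw [H.card, show (15600 : ℕ) = 2 ^ 4 * 975 by norm_num,
      Nat.factorization_mul (by norm_num) (by norm_num), Finsupp.add_apply, Nat.prime_two.factorization_pow,
      Nat.factorization_eq_zero_of_not_dvd (by norm_num)]
    simp
  let P : Sylow 2 ↥K := Sylow.ofCard (zpowers y) (by rw [Nat.card_zpowers, hy, hfac]; norm_num)
  haveI hPc : IsCyclic ↥(P : Subgroup ↥K) := by
    rw [Sylow.coe_ofCard]; infer_instance
  have hmin : (Nat.card ↥K).minFac = 2 := (Nat.minFac_eq_two_iff _).2 (by rw [H.card]; norm_num)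
  have hcomp := IsCyclic.isComplement' (P := P) hmin hPc
  set M := (MonoidHom.transferSylow P (hPc.normalizer_le_centralizer hmin)).ker with hM
  have hidx : M.index = 16 := by
    rw [hcomp.symm.index_eq_card, Sylow.coe_ofCard, Nat.card_zpowers, hy]
  have hcardM : Nat.card ↥M = 975 := by
    have := M.card_mul_index
    rw [hidx, H.card] at this
    omega
  haveI : M.Normal := MonoidHom.normal_ker _
  have hxM : (⟨x, H.mem⟩ : ↥K) ∈ M := by
    have h1 : (⟨x, H.mem⟩ : ↥K) ^ 16 ∈ M := hidx ▸ Subgroup.pow_index_mem M _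
    have h13 : (⟨x, H.mem⟩ : ↥K) ^ 13 = 1 := Subtype.ext (H.hx ▸ pow_orderOf_eq_one x)
    have e : (⟨x, H.mem⟩ : ↥K) = ((⟨x, H.mem⟩ : ↥K) ^ 16) ^ 9 := by
      rw [← pow_mul, show 16 * 9 = 13 * 11 + 1 by norm_num, pow_succ, pow_mul, h13, one_pow, one_mul]
    rw [e]; exact pow_mem h1 9
  set L : Subgroup S := M.map K.subtype
  have hLK : L ≤ K := map_subtype_le _
  have hxL : x ∈ L := ⟨_, hxM, rfl⟩
  obtain ⟨n, h1, h2, h3⟩ := H.count hxL hLK
  have hLc : Nat.card ↥L = 975 := (card_map_of_injective K.subtype_injective).trans hcardM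
  rw [hLc] at h2 h3
  have hn : n ∈ (Nat.divisors 75).filter fun n => n % 13 = 1 :=
    Finset.mem_filter.2 ⟨Nat.mem_divisors.2 ⟨by simpa using h2, by norm_num⟩, h1⟩
  rw [show ((Nat.divisors 75).filter fun n => n % 13 = 1) = {1} by decide +kernel, Finset.mem_singleton] at hn
  subst hn
  rw [one_mul] at h3
  have := card_le_of_le (inf_le_inf_right (normalizer (zpowers x : Set S)) hLK)
  rw [← h3, H.norm_card] at this
  omega

/-- There is a further element normalising the cyclic subgroup of order 4. -/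
theorem exists_further : ∃ t ∈ K, t ∉ zpowers u ∧ (t * u * t⁻¹ = u ∨ t * u * t⁻¹ = u ^ 3) := by
  haveI : Fact (Nat.Prime 2) := ⟨Nat.prime_two⟩
  have hord : orderOf (⟨u, H.u_mem⟩ : ↥K) = 4 := by rw [← orderOf_coe]; exact H.hu
  have hU : IsPGroup 2 ↥(zpowers (⟨u, H.u_mem⟩ : ↥K)) :=
    IsPGroup.of_card (n := 2) (by rw [Nat.card_zpowers, hord]; norm_num)
  obtain ⟨P, hP⟩ := hU.exists_le_sylow
  have hPc : Nat.card ↥(P : Subgroup ↥K) = 16 := by
    rw [P.card_eq_multiplicity, H.card, show (15600 : ℕ) = 2 ^ 4 * 975 by norm_num,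
      Nat.factorization_mul (by norm_num) (by norm_num), Finsupp.add_apply, Nat.prime_two.factorization_pow,
      Nat.factorization_eq_zero_of_not_dvd (by norm_num)]
    simp
  haveI := (IsPGroup.of_card (p := 2) (n := 4) hPc).isNilpotent
  set V : Subgroup ↥(P : Subgroup ↥K) := zpowers ⟨⟨u, H.u_mem⟩, hP (mem_zpowers _)⟩ with hV
  have hlt : V < ⊤ := lt_of_le_of_ne le_top fun e => by
    have := congrArg (fun W : Subgroup ↥(P : Subgroup ↥K) => Nat.card ↥W) e
    simp only [hV, Nat.card_zpowers, Subgroup.card_top, hPc] at this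
    rw [← orderOf_coe, ← orderOf_coe] at this
    exact absurd (this.symm.trans H.hu) (by norm_num)
  obtain ⟨t, ht, htV⟩ := SetLike.exists_of_lt (normalizerCondition_of_isNilpotent V hlt)
  refine ⟨t.1.1, t.1.2, fun hm => htV ?_, ?_⟩
  · obtain ⟨k, hk⟩ := mem_zpowers_iff.1 hm
    exact mem_zpowers_iff.2 ⟨k, Subtype.ext (Subtype.ext (by simpa using hk))⟩
  · have h := ((mem_normalizer_iff).1 ht _).1 (mem_zpowers (⟨⟨u, H.u_mem⟩, hP (mem_zpowers _)⟩ : ↥(P : Subgroup ↥K)))
    have h' : t.1.1 * u * t.1.1⁻¹ ∈ zpowers u := by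
      obtain ⟨k, hk⟩ := mem_zpowers_iff.1 h
      exact mem_zpowers_iff.2 ⟨k, by simpa using congrArg (fun z : ↥(P : Subgroup ↥K) => z.1.1) hk⟩
    obtain ⟨k, hk⟩ := (isOfFinOrder_of_finite u).mem_powers_iff_mem_zpowers.2 h'
    set t₀ : S := t.1.1
    have hk' : t₀ * u * t₀⁻¹ = u ^ (k % 4) := by rw [← H.hu, pow_mod_orderOf]; exact hk.symm
    have ho : orderOf (t₀ * u * t₀⁻¹) = 4 := by
      rw [← H.hu]
      exact orderOf_injective (MulAut.conj t₀).toMonoidHom (MulAut.conj t₀).injective u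
    rw [hk'] at ho ⊢
    rcases (by omega : k % 4 = 0 ∨ k % 4 = 1 ∨ k % 4 = 2 ∨ k % 4 = 3) with e | e | e | e <;> rw [e] at ho ⊢
    · simp at ho
    · exact Or.inl (pow_one u)
    · rw [orderOf_pow, H.hu] at ho; norm_num at ho
    · exact Or.inr rfl

end Hyp

end Cfsg.Lib.Ru4060.FarGroup
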