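import Cfsg.Agent.Lib.Ru4060.OutCent
import Cfsg.Agent.Lib.Ru4060.Recog.Basics
import Cfsg.Agent.Lib.Ru4060.Recog.FarCheck
import Cfsg.Agent.Lib.Ru4060.Recog.FarGroup

/-!
# Subgroups of index 2304 of the point stabiliser

Such a subgroup, conjugated to contain the element of order 13, contains the element of order 4 and one of
768 elements normalising it; in every case it fixes a point of the second suborbit or does not exist.
-/

set_option autoImplicit false
set_option linter.style.longLine false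
set_option maxRecDepth 100000
set_option maxHeartbeats 1000000

namespace Cfsg.Lib.Ru4060.Recog

open Cfsg.Lib.CosetEnum Cfsg.Lib.Ru4060.OutRu MulAction
open scoped Classical

theorem letOK_spec {w : List ℕ} (h : letOK w = true) : (∀ g ∈ w, g < 3) ∧ twalk tab 3 w (bp 0) = bp 0 := by
  simp only [letOK, Bool.and_eq_true, List.all_eq_true, Nat.blt_eq, Nat.beq_eq] at h
  exact h

/-- The element of order 13. -/
noncomputable def pX : Equiv.Perm Pt := wordVal prm xWord

/-- The element of order 4. -/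
noncomputable def pF : Equiv.Perm Pt := wordVal prm fourWord

theorem far_letters : letOK xWord = true ∧ letOK fourWord = true ∧ (∀ w ∈ eightWords, letOK w = true) ∧
    ∀ w ∈ tripleWords, letOK w = true := by
  have h := farWords_ok
  simp only [Bool.and_eq_true, List.all_eq_true] at h
  exact ⟨h.1.1.1, h.1.1.2, h.1.2, h.2⟩

theorem xWord_lt : ∀ g ∈ xWord, g < 3 := (letOK_spec far_letters.1).1

theorem fourWord_lt : ∀ g ∈ fourWord, g < 3 := (letOK_spec far_letters.2.1).1

theorem pX_mem : pX ∈ stab 1 := wordVal_stab_one xWord_lt (letOK_spec far_letters.1).2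

theorem pF_mem : pF ∈ stab 1 := wordVal_stab_one fourWord_lt (letOK_spec far_letters.2.1).2

theorem pX_tab (z : Pt) : (pX z).1 = tabX.getP z := tperm_of_tab xWord_lt tabX_ok z

theorem flatten_lt {w : List ℕ} (hw : ∀ g ∈ w, g < 3) (n : ℕ) : ∀ g ∈ (List.replicate n w).flatten, g < 3 := by
  intro g hg
  obtain ⟨v, hv, hgv⟩ := List.mem_flatten.1 hg
  obtain rfl := List.eq_of_mem_replicate hv
  exact hw g hgv

theorem wordVal_flatten (w : List ℕ) : ∀ n : ℕ,
    wordVal prm (List.replicate n w).flatten = wordVal prm w ^ n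
  | 0 => rfl
  | n + 1 => by rw [List.replicate_succ, List.flatten_cons, wordVal_append, wordVal_flatten w n, pow_succ]

theorem eq_of_sameB {v w : List ℕ} (hv : ∀ g ∈ v, g < 3) (hw : ∀ g ∈ w, g < 3) (h : sameB v w = true) :
    wordVal prm v = wordVal prm w := by
  refine eq_of_base (wordVal_mem_grp hv) (wordVal_mem_grp hw) fun i hi => Fin.ext ?_
  rw [prm_walk hv, prm_walk hw]
  exact Nat.beq_eq.mp (List.all_eq_true.1 h i (List.mem_range.2 hi))

theorem sameB_of_eq {v w : List ℕ} (hv : ∀ g ∈ v, g < 3) (hw : ∀ g ∈ w, g < 3)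
    (h : wordVal prm v = wordVal prm w) : sameB v w = true :=
  List.all_eq_true.2 fun b _ => Nat.beq_eq.mpr (by
    have e := congrArg (fun σ : Equiv.Perm Pt => (σ (bpt b)).1) h
    simp only [prm_walk hv, prm_walk hw] at e
    exact e)

theorem append_lt {v w : List ℕ} (hv : ∀ g ∈ v, g < 3) (hw : ∀ g ∈ w, g < 3) : ∀ g ∈ v ++ w, g < 3 :=
  fun g hg => (List.mem_append.1 hg).elim (hv g) (hw g)

theorem xu_facts : pX ^ 13 = 1 ∧ pX (bpt 1) ≠ bpt 1 ∧ pF ^ 4 = 1 ∧ pF ^ 2 ≠ 1 ∧ pF * pX = pX ^ 5 * pF := by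
  have h := xu_ok
  simp only [Bool.and_eq_true, Bool.not_eq_true'] at h
  obtain ⟨⟨⟨⟨h1, h2⟩, h3⟩, h4⟩, h5⟩ := h
  refine ⟨?_, fun e => ?_, ?_, fun e => ?_, ?_⟩
  · rw [pX, ← wordVal_flatten]
    exact eq_of_sameB (flatten_lt xWord_lt 13) (fun g hg => absurd hg (List.not_mem_nil)) h1
  · refine Bool.eq_false_iff.1 h2 (Nat.beq_eq.mpr ?_)
    exact (prm_walk xWord_lt (bpt 1)).symm.trans (congrArg Fin.val e)
  · rw [pF, ← wordVal_flatten]
    exact eq_of_sameB (flatten_lt fourWord_lt 4) (fun g hg => absurd hg (List.not_mem_nil)) h3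
  · refine Bool.eq_false_iff.1 h4 (sameB_of_eq (append_lt fourWord_lt fourWord_lt)
      (fun g hg => absurd hg (List.not_mem_nil)) ?_)
    rw [wordVal_append]
    exact (pow_two pF).symm.trans e
  · have := eq_of_sameB (append_lt xWord_lt fourWord_lt) (append_lt fourWord_lt (flatten_lt xWord_lt 5)) h5
    rwa [wordVal_append, wordVal_append, wordVal_flatten] at this

theorem orderOf_pX : orderOf pX = 13 := by
  haveI : Fact (Nat.Prime 13) := ⟨by norm_num⟩
  exact orderOf_eq_prime xu_facts.1 fun e => xu_facts.2.1 (by rw [e]; rfl)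

theorem orderOf_pF : orderOf pF = 4 := by
  haveI : Fact (Nat.Prime 2) := ⟨Nat.prime_two⟩
  exact orderOf_eq_prime_pow (p := 2) (n := 1) (by simpa using xu_facts.2.2.2.1) (by simpa using xu_facts.2.2.1)

/-- The element of order 13 is self-centralising in the point stabiliser. -/
theorem commute_pX {c : Equiv.Perm Pt} (hc : c ∈ stab 1) (hcP : Commute c pX) : ∃ i : ℕ, c = pX ^ i := by
  have hB : InB (c (bpt 1)) := (inB_smul hc _).2 one_inB
  have hz := allPts_fin coverX_ok (c (bpt 1))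
  simp only [show bit cls1.mask (c (bpt 1)).1 = true from hB, Bool.not_true, Bool.false_or, coverFn, force_eq,
    Bool.and_eq_true, Nat.blt_eq, Nat.beq_eq] at hz
  set a := Nat.div (coverX.getP (c (bpt 1)).1) 32
  set i := Nat.mod (coverX.getP (c (bpt 1)).1) 32
  obtain ⟨⟨hal, -⟩, hzi⟩ := hz
  have hcs := List.all_eq_true.1 casesX_ok a (List.mem_range.2 hal)
  simp only [caseX, force_eq, Bool.and_eq_true, Nat.blt_eq, Nat.beq_eq] at hcs
  obtain ⟨⟨⟨hr, hl⟩, hback⟩, hj⟩ := hcs
  set d := (pX ^ i)⁻¹ * c with hd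
  have hdP : Commute d pX := ((Commute.pow_self pX i).inv_left).mul_left hcP
  have hd1 : d ∈ stab 1 := mul_mem (inv_mem (pow_mem pX_mem i)) hc
  have hdb : d (bpt 1) = ⟨repsX.getD a 0, hr⟩ := by
    rw [hd, Equiv.Perm.mul_apply, Equiv.Perm.inv_eq_iff_eq]
    exact Fin.ext (((tpow_spec pX_tab i ⟨repsX.getD a 0, hr⟩).trans hzi).symm)
  set W := wordVal prm (backX.getD a [])
  have hlw := letOK_spec hl
  have hW2 : W * d ∈ stab 2 := mem_stab_two.2 ⟨mul_mem (wordVal_stab_one hlw.1 hlw.2) hd1, by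
    rw [Equiv.Perm.mul_apply, hdb]; exact Fin.ext ((prm_walk hlw.1 _).trans hback)⟩
  have hrow : (bpt 1).1 = rowPt 0 := by decide +kernel
  have hA : ∀ {s : Equiv.Perm Pt}, s ∈ stab 2 → ∀ z : Pt, bit (rowMask 0) (s z).1 = bit (rowMask 0) z.1 := by
    intro s hs z
    rw [Bool.eq_iff_iff, ← adj_row (by norm_num) hrow, ← adj_row (by norm_num) hrow]
    conv_lhs => rw [← (mem_stab_two.1 hs).2]
    exact adj_smul hs.1 _ _
  by_cases hj0 : missX.getD a 0 = 0
  · simp only [hj0, show Nat.beq 0 0 = true from rfl, cond_true, Nat.beq_eq] at hj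
    have hd2 : d ∈ stab 2 := mem_stab_two.2 ⟨hd1, hdb.trans (Fin.ext hj)⟩
    refine ⟨i, ?_⟩
    suffices hone : d = 1 by rw [hd, inv_mul_eq_one] at hone; exact hone.symm
    refine eq_one_of_fix (grp_le_pres hd2.1) fun k hk => ?_
    rcases (by omega : k < 2 ∨ 2 ≤ k) with h | h
    · exact hd2.2 k h
    obtain ⟨b, hb, rfl⟩ : ∃ b < 3, k = b + 2 := ⟨k - 2, by omega, by omega⟩
    have hs : sigB tabX (rowMask 0) 13 (d (bpt (b + 2))).1 = sigB tabX (rowMask 0) 13 (bpt (b + 2)).1 :=
      sigB_congr pX_tab 13 _ _ fun j _ => by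
        rw [← show d ((pX ^ j) (bpt (b + 2))) = (pX ^ j) (d (bpt (b + 2))) from
          Equiv.ext_iff.1 (hdP.pow_right j).eq _, hA hd2]
    have h := allPts_fin sepX_ok (d (bpt (b + 2)))
    simp only [sepX, force_eq, Bool.or_eq_true, Nat.beq_eq, List.all_eq_true, List.mem_range,
      Bool.not_eq_true', ← Bool.not_eq_true] at h
    rcases h with h | h
    · exfalso
      have e : d (bpt (b + 2)) = d (bpt 0) := by
        rw [hd2.2 0 (by norm_num)]; exact Fin.ext h
      have hne : ∀ b < 3, bp (b + 2) ≠ bp 0 := by decide +kernel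
      exact hne b hb (congrArg Fin.val (d.injective e))
    · have ht : tgX.getD b 0 = sigB tabX (rowMask 0) 13 (bp (b + 2)) := by
        rw [← tgX_eq, List.getD_eq_getElem _ _ (by simpa using hb), List.getElem_map, List.getElem_range]
      exact Fin.ext ((h b hb).resolve_left fun hn => hn (hs.trans ht.symm))
  · exfalso
    simp only [Bool.eq_false_iff.2 (fun he => hj0 (Nat.beq_eq.mp he) : ¬ Nat.beq (missX.getD a 0) 0 = true),
      cond_false] at hj
    set j := missX.getD a 0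
    have e := hA hW2 ((pX ^ j) (bpt 1))
    rw [Equiv.Perm.mul_apply, show d ((pX ^ j) (bpt 1)) = (pX ^ j) (d (bpt 1)) from
      Equiv.ext_iff.1 (hdP.pow_right j).eq _, hdb, prm_walk hlw.1, tpow_spec pX_tab, tpow_spec pX_tab] at e
    rw [show (bpt 1).1 = bp 1 from rfl] at e
    simp only [e] at hj
    cases hb : bit (rowMask 0) (tpow tabX j (bp 1)) <;> simp [hb] at hj

/-- The two elements of the point stabiliser. -/
noncomputable def sX : ↥(stab 1) := ⟨pX, pX_mem⟩

/-- The element of order 4 of the point stabiliser. -/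
noncomputable def sF : ↥(stab 1) := ⟨pF, pF_mem⟩

theorem hyp_of {K : Subgroup ↥(stab 1)} (hK : Nat.card ↥K = 15600) (hx : sX ∈ K) :
    Cfsg.Lib.Ru4060.FarGroup.Hyp sX sF K where
  hx := by rw [← Subgroup.orderOf_coe]; exact orderOf_pX
  hu := by rw [← Subgroup.orderOf_coe]; exact orderOf_pF
  rel := Subtype.ext (by
    show pF * pX * pF⁻¹ = pX ^ 5
    rw [xu_facts.2.2.2.2, mul_inv_cancel_right])
  cent c hc := by
    obtain ⟨i, hi⟩ := commute_pX c.2 (congrArg Subtype.val hc)
    exact ⟨i, Subtype.ext hi⟩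
  card := hK
  mem := hx

theorem card_stab_two : Nat.card ↥(stab 2) = 20480 := by
  rw [card_stab (by norm_num)]
  decide +kernel

/-- The third point. -/
def pThree : Pt := ⟨tsub1.root, tsub1_ok.root_lt⟩

/-- The fourth point. -/
def pFar : Pt := ⟨lvlFar.root, lvlFar_ok.root_lt⟩

theorem far_head : (∀ z ∈ fixNear, z < 4060 ∧ twalk tab 3 fourWord z = z ∧ bit cls1.mask z = true) ∧
    (∀ z ∈ fixFar, z < 4060 ∧ twalk tab 3 fourWord z = z ∧ bit clsFar.mask z = true) ∧
    (∀ z ∈ fixThree, z < 4060 ∧ twalk tab 3 fourWord z = z ∧ twalk tab 3 xWord z = z ∧ bit clsFar.mask z = true) ∧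
    fixNear.getD 0 0 = bp 1 ∧ fixNear.getD 2 0 = tsub1.root ∧ lvlFar.root = fixThree.getD 0 0 ∧
    fixNear.length = 3 ∧ fixFar.length = 16 ∧ fixThree.length = 3 ∧
    ∀ w ∈ lvlFar.words, twalk tab 3 w tsub1.root = tsub1.root := by
  have h := farHead_ok
  simp only [farHead, Bool.and_eq_true, List.all_eq_true, Nat.blt_eq, Nat.beq_eq] at h
  obtain ⟨⟨⟨⟨⟨⟨⟨⟨⟨h1, h2⟩, h3⟩, h4⟩, h5⟩, h6⟩, h7⟩, h8⟩, h9⟩, h10⟩ := h
  exact ⟨fun z hz => ⟨(h1 z hz).1.1, (h1 z hz).1.2, (h1 z hz).2⟩, fun z hz => ⟨(h2 z hz).1.1, (h2 z hz).1.2, (h2 z hz).2⟩,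
    fun z hz => ⟨(h3 z hz).1.1.1, (h3 z hz).1.1.2, (h3 z hz).1.2, (h3 z hz).2⟩, h4, h5, h6, h7, h8, h9, h10⟩

/-- Four points have at most eight fixing elements, all listed. -/
theorem eight_complete {e : Equiv.Perm Pt} (he : e ∈ stab 2) (h3 : e pThree = pThree) (hf : e pFar = pFar) :
    ∃ k < 8, e = wordVal prm (eightWords.getD k []) := by
  set T3 := stab 2 ⊓ stabilizer (Equiv.Perm Pt) pThree
  set T4 := T3 ⊓ stabilizer (Equiv.Perm Pt) pFar
  have hT3 : Nat.card ↥T3 ≤ 2048 := by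
    have h := card_step (stab 2) pThree
    have hle : 10 ≤ (orbit ↥(stab 2) pThree).ncard := by
      have := Set.ncard_le_ncard (tsub1_ok.subset_orbit (Γ := stab 2) (wgrp_le tsub1_ok.words (le_of_eq lvlFar_facts.2.2.2.symm)))
      rwa [maskSet_ncard tsub1_ok.count, lvlFar_facts.2.2.1] at this
    rw [card_stab_two] at h
    nlinarith
  have hT4 : Nat.card ↥T4 ≤ 8 := by
    have h := card_step T3 pFar
    have hsub : wgrp lvlFar ≤ T3 := le_inf (wgrp_le lvlFar_ok.words (le_of_eq lvlFar_facts.1.symm)) <| by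
      refine (Subgroup.closure_le _).2 ?_
      rintro _ ⟨w, hw, rfl⟩
      exact Fin.ext ((prm_walk (words_facts lvlFar_ok.words hw).1 _).trans (far_head.2.2.2.2.2.2.2.2.2 w hw))
    have hle : 256 ≤ (orbit ↥T3 pFar).ncard := by
      have := Set.ncard_le_ncard (lvlFar_ok.subset_orbit (Γ := T3) hsub)
      rwa [maskSet_ncard lvlFar_ok.count, lvlFar_facts.2.1] at this
    change Nat.card ↥T3 = (orbit ↥T3 pFar).ncard * Nat.card ↥T4 at h
    nlinarith
  have hE := eight_ok
  simp only [eightOK, Bool.and_eq_true, List.all_eq_true, Nat.beq_eq, List.mem_range, Bool.or_eq_true,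
    Bool.not_eq_true', ← Bool.not_eq_true] at hE
  obtain ⟨⟨hlen, hfix⟩, hdist⟩ := hE
  have hmem : ∀ k < 8, eightWords.getD k [] ∈ eightWords := fun k hk => by
    rw [List.getD_eq_getElem _ _ (by omega)]; exact List.getElem_mem _
  have hin : ∀ k < 8, wordVal prm (eightWords.getD k []) ∈ T4 := fun k hk => by
    have hl := letOK_spec (far_letters.2.2.1 _ (hmem k hk))
    obtain ⟨⟨f1, f3⟩, ff⟩ := hfix _ (hmem k hk)
    exact ⟨⟨mem_stab_two.2 ⟨wordVal_stab_one hl.1 hl.2, Fin.ext ((prm_walk hl.1 _).trans f1)⟩,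
      Fin.ext ((prm_walk hl.1 _).trans f3)⟩, Fin.ext ((prm_walk hl.1 _).trans ff)⟩
  have hinj : Function.Injective fun k : Fin 8 => (⟨_, hin k k.2⟩ : ↥T4) := by
    intro i j h
    by_contra hne
    refine ((hdist i i.2 j j.2).resolve_left fun e => hne (Fin.ext e)) ?_
    exact sameB_of_eq (letOK_spec (far_letters.2.2.1 _ (hmem i i.2))).1
      (letOK_spec (far_letters.2.2.1 _ (hmem j j.2))).1 (congrArg Subtype.val h)
  obtain ⟨k, hk⟩ := (hinj.bijective_of_nat_card_le (by rw [Nat.card_fin]; exact hT4)).2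
    ⟨e, ⟨he, h3⟩, hf⟩
  exact ⟨k, k.2, (congrArg Subtype.val hk).symm⟩

/-- An element normalising the element of order 4 is one of the 768. -/
theorem exists_candidate {t : Equiv.Perm Pt} (ht : t ∈ stab 1) (hU : t * pF * t⁻¹ = pF ∨ t * pF * t⁻¹ = pF ^ 3) :
    ∃ k < 768, (∀ g ∈ candW k, g < 3) ∧ wordVal prm (candW k) = t := by
  have hfix : ∀ z, pF z = z → pF (t z) = t z := by
    intro z hz
    rcases hU with h | h
    · rw [show pF (t z) = (t * pF * t⁻¹) (t z) by rw [h]]
      simp [hz]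
    · have hinv : t * pF⁻¹ * t⁻¹ = pF := by
        rw [show t * pF⁻¹ * t⁻¹ = (t * pF * t⁻¹)⁻¹ by group, h, inv_eq_iff_mul_eq_one, ← pow_succ, xu_facts.2.2.1]
      rw [show pF (t z) = (t * pF⁻¹ * t⁻¹) (t z) by rw [hinv]]
      have : pF⁻¹ z = z := by rw [Equiv.Perm.inv_eq_iff_eq, hz]
      rw [Equiv.Perm.mul_apply, Equiv.Perm.mul_apply, Equiv.Perm.inv_eq_iff_eq.2 (rfl : t z = t z), this]
  obtain ⟨hN, hF, hThree, h1, h2, hroot, hlN, hlF, hlT, -⟩ := far_head
  have hfu : ∀ {l : List ℕ} (z : Pt), z.1 ∈ l → (∀ y ∈ l, twalk tab 3 fourWord y = y) → pF z = z :=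
    fun z hz hl => Fin.ext ((prm_walk fourWord_lt z).trans (hl _ hz))
  have gmem : ∀ {l : List ℕ} (i : ℕ), i < l.length → l.getD i 0 ∈ l := fun i hi => by
    rw [List.getD_eq_getElem _ _ hi]; exact List.getElem_mem _
  have hb1 : pF (bpt 1) = bpt 1 := hfu _ (show bp 1 ∈ fixNear from h1 ▸ gmem 0 (by omega)) fun y hy => (hN y hy).2.1
  have hb3 : pF pThree = pThree := hfu _ (show tsub1.root ∈ fixNear from h2 ▸ gmem 2 (by omega)) fun y hy => (hN y hy).2.1
  have hbf : pF pFar = pFar := hfu _ (show lvlFar.root ∈ fixThree from hroot ▸ gmem 0 (by omega)) fun y hy => (hThree y hy).2.1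
  have h3B : InB pThree := (hN tsub1.root (h2 ▸ gmem 2 (by omega))).2.2
  have hfC : InC pFar := (hThree lvlFar.root (hroot ▸ gmem 0 (by omega))).2.2.2
  have near : ∀ z, InB z → pF z = z → ∃ a < 3, fixNear.getD a 0 = z.1 := by
    intro z hz hfz
    have h := allPts_fin fixU_ok z
    have hw : Nat.beq (twalk tab 3 fourWord z) z = true :=
      Nat.beq_eq.mpr ((prm_walk fourWord_lt z).symm.trans (congrArg Fin.val hfz))
    simp only [hw, Bool.not_true, Bool.false_or, show bit cls1.mask z.1 = true from hz, Bool.and_eq_true,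
      List.any_eq_true, Nat.beq_eq] at h
    obtain ⟨⟨y, hy, e⟩, -⟩ := h
    obtain ⟨n, hn, rfl⟩ := List.getElem_of_mem hy
    exact ⟨n, hlN ▸ hn, (List.getD_eq_getElem _ _ hn).trans e.symm⟩
  have far : ∀ z, InC z → pF z = z → ∃ a < 16, fixFar.getD a 0 = z.1 := by
    intro z hz hfz
    have h := allPts_fin fixU_ok z
    have hw : Nat.beq (twalk tab 3 fourWord z) z = true :=
      Nat.beq_eq.mpr ((prm_walk fourWord_lt z).symm.trans (congrArg Fin.val hfz))
    simp only [hw, Bool.not_true, Bool.false_or, show bit clsFar.mask z.1 = true from hz, Bool.and_eq_true,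
      List.any_eq_true, Nat.beq_eq] at h
    obtain ⟨-, ⟨y, hy, e⟩⟩ := h
    obtain ⟨n, hn, rfl⟩ := List.getElem_of_mem hy
    exact ⟨n, hlF ▸ hn, (List.getD_eq_getElem _ _ hn).trans e.symm⟩
  obtain ⟨a, ha, ea⟩ := near _ ((inB_smul ht _).2 one_inB) (hfix _ hb1)
  obtain ⟨b, hb, eb⟩ := near _ ((inB_smul ht _).2 h3B) (hfix _ hb3)
  obtain ⟨c, hc, ec⟩ := far _ ((inC_smul ht _).2 hfC) (hfix _ hbf)
  have hab : a ≠ b := by
    rintro rfl
    have e : bp 1 = tsub1.root := congrArg Fin.val (t.injective (Fin.ext (ea.symm.trans eb) : t (bpt 1) = t pThree))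
    revert e
    decide +kernel
  have hT := triple_ok
  simp only [tripleOK, Bool.and_eq_true, List.all_eq_true, List.mem_range, Bool.or_eq_true, Nat.beq_eq,
    force_eq, Nat.blt_eq] at hT
  obtain ⟨hlen, hT⟩ := hT
  obtain ⟨hk, ⟨⟨e1, e3⟩, ef⟩⟩ := (hT a ha b hb c hc).resolve_left hab
  set k := tripleIdx a b c
  have hwk : tripleWords.getD k [] ∈ tripleWords := gmem' k (by omega)
  have hl := letOK_spec (far_letters.2.2.2 _ hwk)
  set R := wordVal prm (tripleWords.getD k []) with hR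
  have hR1 : R ∈ stab 1 := wordVal_stab_one hl.1 hl.2
  obtain ⟨i, hi, he⟩ := eight_complete (e := R⁻¹ * t)
    (mem_stab_two.2 ⟨mul_mem (inv_mem hR1) ht, by
      rw [Equiv.Perm.mul_apply, Equiv.Perm.inv_eq_iff_eq]
      exact Fin.ext (ea.symm.trans ((prm_walk hl.1 _).trans e1).symm)⟩)
    (by rw [Equiv.Perm.mul_apply, Equiv.Perm.inv_eq_iff_eq]
        exact Fin.ext (eb.symm.trans ((prm_walk hl.1 pThree).trans e3).symm))
    (by rw [Equiv.Perm.mul_apply, Equiv.Perm.inv_eq_iff_eq]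
        exact Fin.ext (ec.symm.trans ((prm_walk hl.1 pFar).trans ef).symm))
  refine ⟨k * 8 + i, by omega, ?_⟩
  rw [candW, show (k * 8 + i) % 8 = i by omega, show (k * 8 + i) / 8 = k by omega]
  have hil : ∀ g ∈ eightWords.getD i [], g < 3 := by
    have := eight_ok
    simp only [eightOK, Bool.and_eq_true, Nat.beq_eq] at this
    exact (letOK_spec (far_letters.2.2.1 _ (gmem' i (by omega)))).1
  refine ⟨append_lt hil hl.1, ?_⟩
  rw [wordVal_append, ← he, ← hR, mul_inv_cancel_left]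
where
  gmem' {l : List (List ℕ)} (i : ℕ) (hi : i < l.length) : l.getD i [] ∈ l := by
    rw [List.getD_eq_getElem _ _ hi]; exact List.getElem_mem _

theorem index_far_stab : ∀ z : Pt, InC z → Nat.card ↥(stabilizer ↥(stab 1) z) = 15600 := by
  intro z hz
  have h := (stabilizer ↥(stab 1) z).card_mul_index
  have horb : (orbit ↥(stab 1) z).ncard = 2304 := by
    rw [← card_inC, ← Set.ncard_coe_finset]
    congr 1
    ext y
    simp only [Finset.coe_filter, Finset.mem_univ, true_and, Set.mem_ofPred_eq]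
    constructor
    · rintro ⟨s, rfl⟩; exact (inC_smul s.2 _).2 hz
    · intro hy
      obtain ⟨s, hs, rfl⟩ := exists_two_to hy
      obtain ⟨s', hs', rfl⟩ := exists_two_to hz
      exact ⟨⟨s * s'⁻¹, mul_mem hs (inv_mem hs')⟩, by
        show (s * s'⁻¹) (s' (bpt 2)) = s (bpt 2)
        simp⟩
  rw [index_stabilizer, horb, show Nat.card ↥(stab 1) = 35942400 from card_stab_one] at h
  omega

/-- A subgroup of order 15600 containing the element of order 13 fixes a point of the second suborbit. -/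
theorem exists_fixed {K : Subgroup ↥(stab 1)} (hK : Nat.card ↥K = 15600) (hx : sX ∈ K) :
    ∃ z : Pt, InC z ∧ K = stabilizer ↥(stab 1) z := by
  have H := hyp_of hK hx
  obtain ⟨t, htK, htU, htn⟩ := H.exists_further
  have hnX : t * sX * t⁻¹ ∉ Subgroup.zpowers sX := fun h => htU (H.mem_zpowers_of_normalises htK h htn)
  obtain ⟨k, hk, hl, hval⟩ := exists_candidate t.2 (htn.imp (congrArg Subtype.val) (congrArg Subtype.val))
  have hc := cert_ok hk
  simp only [certFn] at hc
  split at hc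
  · exfalso
    simp only [Bool.and_eq_true, Bool.not_eq_true', ← Bool.not_eq_true] at hc
    rcases htn with h | h
    · refine hc.1 (sameB_of_eq (append_lt fourWord_lt hl) (append_lt hl fourWord_lt) ?_)
      rw [wordVal_append, wordVal_append, hval]
      exact (mul_inv_eq_iff_eq_mul.1 (congrArg Subtype.val h))
    · refine hc.2 (sameB_of_eq (append_lt fourWord_lt hl) (append_lt hl (flatten_lt fourWord_lt 3)) ?_)
      rw [wordVal_append, wordVal_append, wordVal_flatten, hval]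
      exact (mul_inv_eq_iff_eq_mul.1 (congrArg Subtype.val h))
  · rename_i i _
    simp only [Bool.and_eq_true, Nat.blt_eq, Nat.beq_eq] at hc
    obtain ⟨hi, hfix⟩ := hc
    obtain ⟨hlt, hu, hxz, hC⟩ := far_head.2.2.1 (fixThree.getD i 0) (by
      rw [List.getD_eq_getElem _ _ (by rw [far_head.2.2.2.2.2.2.2.2.1]; exact hi)]; exact List.getElem_mem _)
    set z : Pt := ⟨fixThree.getD i 0, hlt⟩
    refine ⟨z, hC, ?_⟩
    have hL : K ⊓ stabilizer ↥(stab 1) z = K := H.eq_of_moves inf_le_left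
      ⟨hx, Fin.ext ((prm_walk xWord_lt z).trans hxz)⟩ ⟨H.u_mem, Fin.ext ((prm_walk fourWord_lt z).trans hu)⟩
      ⟨htK, show t.1 z = z from Fin.ext (by rw [← hval, prm_walk hl]; exact hfix)⟩ hnX
    exact Subgroup.eq_of_le_of_card_ge (inf_eq_left.1 hL) (by rw [hK, index_far_stab z hC])
  · rename_i i _
    exfalso
    refine hnX ?_
    have e := eq_of_sameB (append_lt xWord_lt hl) (append_lt hl (flatten_lt xWord_lt i)) hc
    rw [wordVal_append, wordVal_append, wordVal_flatten, hval] at e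
    have e2 : t * sX * t⁻¹ = sX ^ i := Subtype.ext (by
      show t.1 * pX * t.1⁻¹ = pX ^ i
      rw [mul_inv_eq_iff_eq_mul]; exact e)
    rw [e2]
    exact pow_mem (Subgroup.mem_zpowers sX) i
  · rename_i z w _
    exfalso
    simp only [Bool.and_eq_true, Nat.blt_eq, List.all_eq_true, Bool.not_eq_true', ← Bool.not_eq_true,
      Nat.beq_eq] at hc
    obtain ⟨⟨hz, hw⟩, h8, h16⟩ := hc
    let v : ℕ → ↥(stab 1) := fun l => [sX, sF, t].getD l 1
    have hv : ∀ l, l < 3 → (∀ g ∈ [xWord, fourWord, candW k].getD l [], g < 3) ∧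
        wordVal prm ([xWord, fourWord, candW k].getD l []) = (v l).1 ∧ v l ∈ K := by
      intro l hl3
      interval_cases l
      exacts [⟨xWord_lt, rfl, hx⟩, ⟨fourWord_lt, rfl, H.u_mem⟩, ⟨hl, hval, htK⟩]
    have key : ∀ w : List ℕ, (∀ l ∈ w, l < 3) → (∀ g ∈ subX (candW k) w, g < 3) ∧
        ∃ g ∈ K, (g : Equiv.Perm Pt) = wordVal prm (subX (candW k) w) := by
      intro w
      induction w with
      | nil => exact fun _ => ⟨by simp [subX], 1, one_mem _, rfl⟩
      | cons l w ih =>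
        intro hw'
        obtain ⟨h1, g, hg, eg⟩ := ih fun y hy => hw' y (List.mem_cons_of_mem _ hy)
        obtain ⟨h2, h3, h4⟩ := hv l (hw' l (List.mem_cons_self ..))
        rw [subX, List.flatMap_cons, ← subX]
        refine ⟨append_lt h2 h1, g * v l, mul_mem hg h4, ?_⟩
        rw [Subgroup.coe_mul, wordVal_append, eg, h3]
    obtain ⟨hWl, g, hg, eg⟩ := key w hw
    set W := subX (candW k) w
    have hwalk : ∀ (n : ℕ) (y : Pt), walkPow W n y.1 = ((g.1 ^ n) y).1 := by
      intro n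
      induction n with
      | zero => intro y; rfl
      | succ n ih =>
        intro y
        rw [walkPow, force_eq, pow_succ, Equiv.Perm.mul_apply, ← ih, eg, prm_walk hWl]
    set y : Pt := ⟨z, hz⟩
    have e16 : g.1 ^ 16 • y = y := Fin.ext ((hwalk 16 y).symm.trans h16)
    have e8 : ¬ g.1 ^ 8 • y = y := fun e => h8 ((hwalk 8 y).trans (congrArg Fin.val e))
    rw [pow_smul_eq_iff_period_dvd] at e16 e8
    have hper : MulAction.period g.1 y = 16 := by
      obtain ⟨j, hj, e⟩ := (Nat.dvd_prime_pow Nat.prime_two (m := 4)).1 e16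
      rcases Nat.lt_or_ge j 4 with h | h
      · exact absurd (e ▸ pow_dvd_pow 2 (Nat.lt_succ_iff.1 h) : MulAction.period g.1 y ∣ 2 ^ 3) e8
      · rw [e, show j = 4 by omega]; rfl
    refine H.not_sixteen_dvd hg ?_
    rw [← Subgroup.orderOf_coe, ← hper]
    exact MulAction.period_dvd_orderOf _ _
  · exact Bool.noConfusion hc

/-- Subgroups of index 2304 of the point stabiliser fix a point of the second suborbit. -/
theorem uniq_far (M : Subgroup ↥(stab 1)) (hM : M.index = 2304) :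
    ∃ z : Pt, InC z ∧ ∀ s : ↥(stab 1), s ∈ M ↔ s.1 z = z := by
  have hc : Nat.card ↥M = 15600 := by
    have h := M.card_mul_index
    rw [hM, show Nat.card ↥(stab 1) = 35942400 from card_stab_one] at h
    omega
  haveI : Fact (Nat.Prime 13) := ⟨by norm_num⟩
  obtain ⟨y, hy⟩ := exists_prime_orderOf_dvd_card' (G := ↥M) 13 (by rw [hc]; norm_num)
  rw [← Subgroup.orderOf_coe] at hy
  have hfac : (Nat.card ↥(stab 1)).factorization 13 = 1 := by
    rw [show Nat.card ↥(stab 1) = 35942400 from card_stab_one, show (35942400 : ℕ) = 13 ^ 1 * 2764800 by norm_num,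
      Nat.factorization_mul (by norm_num) (by norm_num), Finsupp.add_apply,
      (show Nat.Prime 13 by norm_num).factorization_pow, Nat.factorization_eq_zero_of_not_dvd (by norm_num)]
    simp
  have hsx : orderOf sX = 13 := by rw [← Subgroup.orderOf_coe]; exact orderOf_pX
  let P : Sylow 13 ↥(stab 1) := Sylow.ofCard (Subgroup.zpowers (y : ↥(stab 1))) (by rw [Nat.card_zpowers, hy, hfac, pow_one])
  let Q : Sylow 13 ↥(stab 1) := Sylow.ofCard (Subgroup.zpowers sX) (by rw [Nat.card_zpowers, hsx, hfac, pow_one])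
  obtain ⟨g, hg⟩ := MulAction.exists_smul_eq ↥(stab 1) P Q
  set K := M.map (MulAut.conj g).toMonoidHom with hKdef
  have hxK : sX ∈ K := by
    have h1 : (Q : Subgroup ↥(stab 1)) = (P : Subgroup ↥(stab 1)).map (MulAut.conj g).toMonoidHom := by
      rw [← hg, Sylow.coe_subgroup_smul]; rfl
    have h2 : sX ∈ (Q : Subgroup ↥(stab 1)) := by rw [Sylow.coe_ofCard]; exact Subgroup.mem_zpowers sX
    rw [h1, Sylow.coe_ofCard] at h2
    exact Subgroup.map_mono (Subgroup.zpowers_le.2 y.2) h2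
  obtain ⟨z, hz, he⟩ := exists_fixed (K := K) (by
    rw [hKdef, Subgroup.card_map_of_injective (MulAut.conj g).injective]; exact hc) hxK
  refine ⟨(g.1)⁻¹ z, (inC_smul (inv_mem g.2) z).2 hz, fun s => ?_⟩
  have hs : s ∈ M ↔ MulAut.conj g s ∈ K := by
    rw [hKdef, Subgroup.mem_map_equiv, MulEquiv.symm_apply_apply]
  rw [hs, he, mem_stabilizer_iff]
  show (g.1 * s.1 * g.1⁻¹) z = z ↔ _
  rw [Equiv.Perm.mul_apply, Equiv.Perm.mul_apply, ← Equiv.Perm.eq_inv_iff_eq]

end Cfsg.Lib.Ru4060.Recog
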