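import Cfsg.Agent.Lib.Ru4060.Recog.Basics

/-!
# Rank three groups with suborbits 1, 1755, 2304: the graph is forced

The stabiliser of a point acts on the two suborbits as the model does; the counts of common neighbours
are unions of suborbit lengths, and only one choice satisfies the count of edges between the suborbits.
-/

set_option autoImplicit false
set_option linter.style.longLine false
set_option linter.unusedSectionVars false
set_option maxRecDepth 100000

namespace Cfsg.Lib.Ru4060.Recog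

open Cfsg.Lib.CosetEnum MulAction Finset
open scoped Classical

variable {Ω : Type*} [Fintype Ω] [DecidableEq Ω] {G : Subgroup (Equiv.Perm Ω)} {a b c : Ω}

/-- The hypotheses, with the point stabiliser carried by the model. -/
structure Setup (G : Subgroup (Equiv.Perm Ω)) (a b c : Ω) where
  hcard : Fintype.card Ω = 4060
  trans : ∀ x : Ω, ∃ g ∈ G, g a = x
  orbB : (orbit (stabilizer G a) b).ncard = 1755
  orbC : (orbit (stabilizer G a) c).ncard = 2304
  ρ : ↥(stab 1) →* Equiv.Perm Ω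
  inj : Function.Injective ρ
  mem : ∀ s, ρ s ∈ G
  fix : ∀ s, ρ s a = a
  surj : ∀ g ∈ G, g a = a → ∃ s, ρ s = g

/-- The uniqueness of the two actions of the model. -/
def Unique2 : Prop :=
  (∀ M : Subgroup ↥(stab 1), M.index = 1755 → ∃ z : Pt, InB z ∧ ∀ s : ↥(stab 1), s ∈ M ↔ s.1 z = z) ∧
  (∀ M : Subgroup ↥(stab 1), M.index = 2304 → ∃ z : Pt, InC z ∧ ∀ s : ↥(stab 1), s ∈ M ↔ s.1 z = z)

/-- The orbital of a pair. -/
def Rel (G : Subgroup (Equiv.Perm Ω)) (a b x y : Ω) : Prop := ∃ g ∈ G, g a = x ∧ g b = y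

theorem card_cases (P : Pt → Prop) :
    (univ.filter P).card = (if P (bpt 0) then 1 else 0) + (univ.filter fun q => InB q ∧ P q).card +
      (univ.filter fun q => InC q ∧ P q).card := by
  rw [card_filter, card_filter, card_filter,
    show (if P (bpt 0) then 1 else 0) = ∑ q : Pt, if q = bpt 0 then (if P q then 1 else 0) else 0 by simp,
    ← sum_add_distrib, ← sum_add_distrib]
  refine sum_congr rfl fun q _ => ?_
  rcases cases3 q with rfl | hq | hq
  · simp [not_inB_zero, show ¬ InC (bpt 0) from fun h => ne_zero_of_inC h rfl]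
  · have h1 : ¬ InC q := fun h => not_inB_of_inC h hq
    have h2 : q ≠ bpt 0 := fun e => not_inB_zero (e ▸ hq)
    by_cases hP : P q
    · rw [if_neg h2, if_pos hP, if_pos ⟨hq, hP⟩, if_neg fun h => h1 h.1]
    · rw [if_neg h2, if_neg hP, if_neg fun h => hP h.2, if_neg fun h => hP h.2]
  · have h1 : ¬ InB q := not_inB_of_inC hq
    by_cases hP : P q
    · rw [if_neg (ne_zero_of_inC hq), if_pos hP, if_neg fun h => h1 h.1, if_pos ⟨hq, hP⟩]
    · rw [if_neg (ne_zero_of_inC hq), if_neg hP, if_neg fun h => hP h.2, if_neg fun h => hP h.2]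

namespace Setup

variable (S : Setup G a b c)
include S

theorem orbit_eq (d : Ω) : orbit (stabilizer G a) d = Set.range fun s => S.ρ s d := by
  ext y
  constructor
  · rintro ⟨g, rfl⟩
    obtain ⟨s, hs⟩ := S.surj g.1.1 g.1.2 g.2
    exact ⟨s, by show S.ρ s d = g.1.1 d; rw [hs]⟩
  · rintro ⟨s, rfl⟩
    exact ⟨⟨⟨S.ρ s, S.mem s⟩, S.fix s⟩, rfl⟩

theorem exists_point (P : Pt → Prop) (hP : ∀ z, P z → ∀ s : ↥(stab 1), P (s.1 z))
    (htrans : ∀ z z', P z → P z' → ∃ s : ↥(stab 1), s.1 z = z') {d : Ω} {k : ℕ}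
    (hd : (orbit (stabilizer G a) d).ncard = k)
    (huniq : ∀ M : Subgroup ↥(stab 1), M.index = k → ∃ z : Pt, P z ∧ ∀ s : ↥(stab 1), s ∈ M ↔ s.1 z = z) :
    ∃ φ : {z // P z} → Ω, Function.Injective φ ∧ Set.range φ = orbit (stabilizer G a) d ∧
      ∀ (s : ↥(stab 1)) (z : {z // P z}), φ ⟨s.1 z.1, hP z.1 z.2 s⟩ = S.ρ s (φ z) := by
  set M : Subgroup ↥(stab 1) := (stabilizer ↥S.ρ.range d).comap S.ρ.rangeRestrict with hM
  have hidx : M.index = k := by
    rw [hM, Subgroup.index_comap_of_surjective _ S.ρ.rangeRestrict_surjective, index_stabilizer, ← hd]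
    congr 1
    rw [S.orbit_eq]
    ext y
    constructor
    · rintro ⟨⟨_, s, rfl⟩, rfl⟩; exact ⟨s, rfl⟩
    · rintro ⟨s, rfl⟩; exact ⟨⟨_, s, rfl⟩, rfl⟩
  obtain ⟨z₀, hz₀, hstab⟩ := huniq M hidx
  have hmem : ∀ s, s ∈ M ↔ S.ρ s d = d := fun s => Iff.rfl
  choose pick hpick using fun z : {z // P z} => htrans z₀ z.1 hz₀ z.2
  refine ⟨fun z => S.ρ (pick z) d, ?_, ?_, ?_⟩
  · intro z z' e
    have h1 : (pick z')⁻¹ * pick z ∈ M := by
      rw [hmem, map_mul, map_inv, Equiv.Perm.mul_apply]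
      exact (Equiv.Perm.inv_eq_iff_eq).2 e
    have h2 := (hstab _).1 h1
    rw [Subgroup.coe_mul, Subgroup.coe_inv, Equiv.Perm.mul_apply, hpick, Equiv.Perm.inv_eq_iff_eq, hpick] at h2
    exact Subtype.ext h2
  · rw [S.orbit_eq]
    ext y
    constructor
    · rintro ⟨z, rfl⟩; exact ⟨pick z, rfl⟩
    · rintro ⟨s, rfl⟩
      refine ⟨⟨s.1 z₀, hP z₀ hz₀ s⟩, ?_⟩
      have h1 : s⁻¹ * pick ⟨s.1 z₀, hP z₀ hz₀ s⟩ ∈ M := (hstab _).2 (by
        rw [Subgroup.coe_mul, Subgroup.coe_inv, Equiv.Perm.mul_apply, hpick, Equiv.Perm.inv_eq_iff_eq])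
      rw [hmem, map_mul, map_inv, Equiv.Perm.mul_apply, Equiv.Perm.inv_eq_iff_eq] at h1
      exact h1
  · intro s z
    have h1 : (s * pick z)⁻¹ * pick ⟨s.1 z.1, hP z.1 z.2 s⟩ ∈ M := (hstab _).2 (by
      rw [Subgroup.coe_mul, Subgroup.coe_inv, Equiv.Perm.mul_apply, hpick, Equiv.Perm.inv_eq_iff_eq,
        Subgroup.coe_mul, Equiv.Perm.mul_apply, hpick])
    rw [hmem, map_mul, map_inv, Equiv.Perm.mul_apply, Equiv.Perm.inv_eq_iff_eq, map_mul,
      Equiv.Perm.mul_apply] at h1
    exact h1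

theorem not_mem_orbit {d : Ω} {k : ℕ} (hd : (orbit (stabilizer G a) d).ncard = k) (hk : 1 < k) :
    a ∉ orbit (stabilizer G a) d := by
  intro h
  rw [← orbit_eq_iff.2 h] at hd
  have : orbit (stabilizer G a) a = {a} := by
    refine Set.eq_singleton_iff_unique_mem.2 ⟨mem_orbit_self a, ?_⟩
    rintro _ ⟨g, rfl⟩
    exact g.2
  rw [this, Set.ncard_singleton] at hd
  omega

/-- An equivariant bijection with the points of the model. -/
theorem exists_phi (hu : Unique2) : ∃ φ : Pt ≃ Ω, φ (bpt 0) = a ∧ (∀ z, InB z ↔ φ z ∈ orbit (stabilizer G a) b) ∧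
    ∀ (s : ↥(stab 1)) (z : Pt), φ (s.1 z) = S.ρ s (φ z) := by
  obtain ⟨β, hβi, hβr, hβe⟩ := S.exists_point InB (fun z hz s => (inB_smul s.2 z).2 hz) (fun z z' hz hz' => by
    obtain ⟨s, hs, rfl⟩ := exists_one_to hz
    obtain ⟨t, ht, rfl⟩ := exists_one_to hz'
    exact ⟨⟨t * s⁻¹, mul_mem ht (inv_mem hs)⟩, by simp⟩) S.orbB hu.1
  obtain ⟨γ, hγi, hγr, hγe⟩ := S.exists_point InC (fun z hz s => (inC_smul s.2 z).2 hz) (fun z z' hz hz' => by
    obtain ⟨s, hs, rfl⟩ := exists_two_to hz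
    obtain ⟨t, ht, rfl⟩ := exists_two_to hz'
    exact ⟨⟨t * s⁻¹, mul_mem ht (inv_mem hs)⟩, by simp⟩) S.orbC hu.2
  let f : Pt → Ω := fun z => if hb : InB z then β ⟨z, hb⟩ else if hc : InC z then γ ⟨z, hc⟩ else a
  have f0 : f (bpt 0) = a := by
    simp only [f, dif_neg not_inB_zero, dif_neg fun h => ne_zero_of_inC h rfl]
  have fB : ∀ z (hz : InB z), f z = β ⟨z, hz⟩ := fun z hz => dif_pos hz
  have fC : ∀ z (hz : InC z), f z = γ ⟨z, hz⟩ := fun z hz => by
    simp only [f, dif_neg (not_inB_of_inC hz), dif_pos hz]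
  have hBC : ∀ x, x ∈ orbit (stabilizer G a) b → x ∉ orbit (stabilizer G a) c := by
    intro x hx hx'
    have e := congrArg Set.ncard ((orbit_eq_iff.2 hx).symm.trans (orbit_eq_iff.2 hx'))
    rw [S.orbB, S.orbC] at e
    omega
  have kind : ∀ z, (InB z → f z ∈ orbit (stabilizer G a) b) ∧ (InC z → f z ∈ orbit (stabilizer G a) c) :=
    fun z => ⟨fun h => hβr ▸ ⟨⟨z, h⟩, (fB z h).symm⟩, fun h => hγr ▸ ⟨⟨z, h⟩, (fC z h).symm⟩⟩
  have haB := S.not_mem_orbit S.orbB (by norm_num)
  have haC := S.not_mem_orbit S.orbC (by norm_num)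
  have finj : Function.Injective f := by
    intro z w e
    rcases cases3 z with rfl | hz | hz <;> rcases cases3 w with rfl | hw | hw
    · rfl
    · exact absurd ((kind w).1 hw) (e ▸ f0.symm ▸ haB)
    · exact absurd ((kind w).2 hw) (e ▸ f0.symm ▸ haC)
    · exact absurd ((kind z).1 hz) (e.symm ▸ f0.symm ▸ haB)
    · exact congrArg Subtype.val (hβi ((fB z hz).symm.trans (e.trans (fB w hw))))
    · exact absurd ((kind w).2 hw) (hBC _ (e ▸ (kind z).1 hz))
    · exact absurd ((kind z).2 hz) (e.symm ▸ f0.symm ▸ haC)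
    · exact absurd ((kind z).2 hz) (hBC _ (e.symm ▸ (kind w).1 hw))
    · exact congrArg Subtype.val (hγi ((fC z hz).symm.trans (e.trans (fC w hw))))
  let φ : Pt ≃ Ω := Equiv.ofBijective f
    ((Fintype.bijective_iff_injective_and_card f).2 ⟨finj, by rw [Fintype.card_fin, S.hcard]⟩)
  refine ⟨φ, f0, fun z => ⟨(kind z).1, fun h => ?_⟩, ?_⟩
  · rcases cases3 z with rfl | hz | hz
    · exact absurd h (f0.symm ▸ haB)
    · exact hz
    · exact absurd ((kind z).2 hz) (hBC _ h)
  · intro s z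
    show f (s.1 z) = S.ρ s (f z)
    rcases cases3 z with rfl | hz | hz
    · rw [s.2.2 0 Nat.one_pos, f0, S.fix]
    · rw [fB z hz, fB _ ((inB_smul s.2 z).2 hz)]; exact hβe s ⟨z, hz⟩
    · rw [fC z hz, fC _ ((inC_smul s.2 z).2 hz)]; exact hγe s ⟨z, hz⟩

theorem rel_smul {g : Equiv.Perm Ω} (hg : g ∈ G) (x y : Ω) : Rel G a b (g x) (g y) ↔ Rel G a b x y := by
  constructor
  · rintro ⟨k, hk, h1, h2⟩
    exact ⟨g⁻¹ * k, mul_mem (inv_mem hg) hk, by simp [h1], by simp [h2]⟩
  · rintro ⟨k, hk, rfl, rfl⟩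
    exact ⟨g * k, mul_mem hg hk, rfl, rfl⟩

theorem rel_base (y : Ω) : Rel G a b a y ↔ y ∈ orbit (stabilizer G a) b := by
  constructor
  · rintro ⟨g, hg, h1, rfl⟩
    exact ⟨⟨⟨g, hg⟩, h1⟩, rfl⟩
  · rintro ⟨g, rfl⟩
    exact ⟨g.1.1, g.1.2, g.2, rfl⟩

theorem rel_irrefl (x : Ω) : ¬ Rel G a b x x := by
  rintro ⟨g, -, h1, h2⟩
  have e : a = b := g.injective (h1.trans h2.symm)
  refine S.not_mem_orbit S.orbB (by norm_num) ?_
  subst e
  exact mem_orbit_self a

theorem card_out (x : Ω) : (univ.filter fun y => Rel G a b x y).card = 1755 := by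
  obtain ⟨g, hg, rfl⟩ := S.trans x
  have e : (univ.filter fun y => Rel G a b (g a) y).card = (univ.filter fun y => Rel G a b a y).card := by
    refine (Finset.card_equiv g fun y => ?_).symm
    simp only [mem_filter, mem_univ, true_and, S.rel_smul hg]
  rw [e, ← S.orbB, ← Set.ncard_coe_finset]
  congr 1
  ext y
  simp only [coe_filter, mem_univ, true_and, Set.mem_ofPred_eq, S.rel_base]

theorem card_in (x : Ω) : (univ.filter fun y => Rel G a b y x).card = 1755 := by
  have hconst : ∀ z, (univ.filter fun y => Rel G a b y z).card = (univ.filter fun y => Rel G a b y a).card := by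
    intro z
    obtain ⟨g, hg, rfl⟩ := S.trans z
    refine (Finset.card_equiv g fun y => ?_).symm
    simp only [mem_filter, mem_univ, true_and, S.rel_smul hg]
  have hsum : ∑ z, (univ.filter fun y => Rel G a b y z).card = ∑ y, (univ.filter fun z => Rel G a b y z).card := by
    simp only [card_filter]
    exact Finset.sum_comm
  simp only [hconst, S.card_out, sum_const, card_univ, S.hcard, smul_eq_mul] at hsum
  rw [hconst]
  omega

theorem rel_symm {x y : Ω} (hr : Rel G a b x y) : Rel G a b y x := by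
  suffices hb : Rel G a b b a by
    obtain ⟨g, hg, rfl, rfl⟩ := hr
    exact (S.rel_smul hg b a).2 hb
  have hinv : ∀ z, Rel G a b z a → ∀ y ∈ orbit (stabilizer G a) z, Rel G a b y a := by
    rintro z hz _ ⟨k, rfl⟩
    have := (S.rel_smul k.1.2 z a).2 hz
    rwa [show (k.1 : Equiv.Perm Ω) a = a from k.2] at this
  obtain ⟨z, hz⟩ := card_pos.1 (show 0 < (univ.filter fun y => Rel G a b y a).card by rw [S.card_in]; norm_num)
  simp only [mem_filter, mem_univ, true_and] at hz
  have hsub : orbit (stabilizer G a) z ⊆ ↑(univ.filter fun y => Rel G a b y a) := fun y hy => by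
    simpa using hinv z hz y hy
  have hle := Set.ncard_le_ncard hsub
  rw [Set.ncard_coe_finset, S.card_in] at hle
  by_contra hb
  have hzB : z ∉ orbit (stabilizer G a) b := fun h =>
    hb (hinv z hz b (by rw [← orbit_eq_iff.2 (mem_orbit_symm.1 h)]; exact mem_orbit_self b))
  have hza : z ≠ a := fun e => S.rel_irrefl a (e ▸ hz)
  have hdis : Disjoint (orbit (stabilizer G a) z) (orbit (stabilizer G a) b) :=
    Set.disjoint_left.2 fun w hw hw' => hzB (orbit_eq_iff.1 ((orbit_eq_iff.2 hw).symm.trans (orbit_eq_iff.2 hw')))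
  have hzc : z ∈ orbit (stabilizer G a) c := by
    by_contra hzc
    have hBC : Disjoint (orbit (stabilizer G a) b) (orbit (stabilizer G a) c) :=
      Set.disjoint_left.2 fun w hw hw' => by
        have e := congrArg Set.ncard ((orbit_eq_iff.2 hw).symm.trans (orbit_eq_iff.2 hw'))
        rw [S.orbB, S.orbC] at e
        omega
    have hle := Set.ncard_le_ncard (show orbit (stabilizer G a) b ∪ orbit (stabilizer G a) c ⊆
        (Set.univ : Set Ω) \ {a, z} from fun w hw => ⟨Set.mem_univ _, by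
      rintro (rfl | rfl) <;> rcases hw with hw | hw
      · exact S.not_mem_orbit S.orbB (by norm_num) hw
      · exact S.not_mem_orbit S.orbC (by norm_num) hw
      · exact hzB hw
      · exact hzc hw⟩)
    rw [Set.ncard_union_eq hBC, S.orbB, S.orbC, Set.ncard_sdiff (Set.subset_univ _), Set.ncard_univ,
      Nat.card_eq_fintype_card, S.hcard, Set.ncard_pair (Ne.symm hza)] at hle
    omega
  rw [orbit_eq_iff.2 hzc, S.orbC] at hle
  omega

theorem rel_comm (x y : Ω) : Rel G a b x y ↔ Rel G a b y x := ⟨S.rel_symm, S.rel_symm⟩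

variable {φ : Pt ≃ Ω} (h0 : φ (bpt 0) = a) (hB : ∀ z, InB z ↔ φ z ∈ orbit (stabilizer G a) b)
  (he : ∀ (s : ↥(stab 1)) (z : Pt), φ (s.1 z) = S.ρ s (φ z))
include h0 hB he

omit h0 hB in
theorem relP_smul {s : Equiv.Perm Pt} (hs : s ∈ stab 1) (p q : Pt) :
    Rel G a b (φ (s p)) (φ (s q)) ↔ Rel G a b (φ p) (φ q) := by
  rw [he ⟨s, hs⟩ p, he ⟨s, hs⟩ q]
  exact S.rel_smul (S.mem _) _ _

omit he in
theorem relP_zero (q : Pt) : Rel G a b (φ (bpt 0)) (φ q) ↔ InB q := by rw [h0, S.rel_base, hB]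

omit hB in
/-- Moving the first point anywhere. -/
theorem exists_move (p : Pt) : ∃ σ : Equiv.Perm Pt, σ (bpt 0) = p ∧
    ∀ x y, Rel G a b (φ (σ x)) (φ (σ y)) ↔ Rel G a b (φ x) (φ y) := by
  obtain ⟨g, hg, hga⟩ := S.trans (φ p)
  refine ⟨(φ.trans g).trans φ.symm, φ.injective ?_, fun x y => ?_⟩
  · simp [h0, hga]
  · simp only [Equiv.trans_apply, Equiv.apply_symm_apply]
    exact S.rel_smul hg _ _

end Setup

/-- A graph with the local symmetry of the model. -/
structure Good (R : Pt → Pt → Prop) : Prop where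
  symm : ∀ p q, R p q → R q p
  irrefl : ∀ p, ¬ R p p
  zero : ∀ q, R (bpt 0) q ↔ InB q
  smul : ∀ s ∈ stab 1, ∀ p q, R (s p) (s q) ↔ R p q
  move : ∀ p, ∃ σ : Equiv.Perm Pt, σ (bpt 0) = p ∧ ∀ x y, R (σ x) (σ y) ↔ R x y

theorem good_adj : Good Adj where
  symm _ _ := adj_symm
  irrefl := adj_irrefl
  zero := adj_zero
  smul _ hs := adj_smul hs.1
  move p := by
    obtain ⟨g, hg, h⟩ := exists_zero_to p
    exact ⟨g, h, adj_smul hg⟩

theorem Setup.good {S : Setup G a b c} {φ : Pt ≃ Ω} (h0 : φ (bpt 0) = a)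
    (hB : ∀ z, InB z ↔ φ z ∈ orbit (stabilizer G a) b)
    (he : ∀ (s : ↥(stab 1)) (z : Pt), φ (s.1 z) = S.ρ s (φ z)) :
    Good fun p q => Rel G a b (φ p) (φ q) where
  symm _ _ := S.rel_symm
  irrefl _ := S.rel_irrefl _
  zero := S.relP_zero h0 hB
  smul _ hs := S.relP_smul he hs
  move := S.exists_move h0 he

theorem part_root_lt (i : Fin 5) : (tsubOf i).root < 4060 := (tsubOf_ok i i.2).1.root_lt

/-- The root of a part of the first suborbit. -/
def tRoot (i : Fin 5) : Pt := ⟨(tsubOf i).root, part_root_lt i⟩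

theorem tsub_facts : (List.range 5).map (fun i => ((tsubOf i).size, (tsubOf i).root)) =
    [(1, 1), (10, 3), (80, 2076), (640, 688), (1024, 577)] := by decide +kernel

theorem kPart_inB : ∀ i : Fin 8, bit cls1.mask (kPart i).root = decide (i = 0 ∨ i = 1) := by decide +kernel

theorem kPart_zero : ∀ i : Fin 8, bit (kPart i).mask (bp 2) = decide (i = 2) := by decide +kernel

theorem kPart_not_zero : ∀ i : Fin 8, bit (kPart i).mask (bp 0) = false := by decide +kernel

theorem kPart_sizes : ∀ i : Fin 8, (kPart i).size = [780, 975, 1, 78, 300, 300, 650, 975].getD i 0 := by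
  decide +kernel

theorem flags_near : ∀ T : Fin 5 → Bool, ∀ k0 k1 : Bool, T 0 = false →
    1755 * (1754 - ∑ i, if T i then [1, 10, 80, 640, 1024].getD i 0 else 0) =
      2304 * ((if k0 then 780 else 0) + if k1 then 975 else 0) →
    ((∀ i, T i = [false, true, true, true, false].getD i false) ∧ k0 = true ∧ k1 = false) ∨
      (k0 = false ∧ k1 = false) := by decide +kernel

theorem flags_far : ∀ T : Fin 5 → Bool,
    (∑ i, if T i then [78, 300, 300, 650, 975].getD i 0 else 0) = 975 →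
    ∀ i, T i = [false, false, false, false, true].getD i false := by decide +kernel

namespace Good

variable {R : Pt → Pt → Prop} (hR : Good R)
include hR

theorem comm (p q : Pt) : R p q ↔ R q p := ⟨hR.symm p q, hR.symm q p⟩

theorem degree (p : Pt) : (univ.filter fun q => R p q).card = 1755 := by
  obtain ⟨σ, rfl, hσ⟩ := hR.move p
  rw [← card_inB]
  refine (Finset.card_equiv σ fun q => ?_).symm
  simp only [mem_filter, mem_univ, true_and, hσ, hR.zero]

theorem near_const {i : Fin 5} {z : Pt} (hz : bit (tsubOf i).mask z = true) :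
    R (bpt 1) z ↔ R (bpt 1) (tRoot i) := by
  obtain ⟨hD, hfix⟩ := tsubOf_ok i i.2
  obtain ⟨x, hx, hxz⟩ := hD.root_conn hz
  have hx2 : x ∈ stab 2 := wgrp_le hD.words (le_of_eq hfix.symm) hx
  conv_lhs => rw [show z = x (tRoot i) from hxz.symm, show bpt 1 = x (bpt 1) from (hx2.2 1 one_lt_two).symm]
  exact hR.smul x (mem_stab_two.1 hx2).1 _ _

theorem far_const {i : Fin 8} {z : Pt} (hz : bit (kPart i).mask z = true) :
    R (bpt 2) z ↔ R (bpt 2) (kRoot i) := by
  obtain ⟨k, hk, h2, rfl⟩ := kPart_conn hz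
  conv_lhs => rw [← h2]
  exact hR.smul k hk _ _

theorem count_near : (univ.filter fun z => InB z ∧ R (bpt 1) z).card =
    ∑ i : Fin 5, if R (bpt 1) (tRoot i) then [1, 10, 80, 640, 1024].getD i 0 else 0 := by
  convert card_split (fun i : Fin 5 => (tsubOf i).mask) (fun i : Fin 5 => [1, 10, 80, 640, 1024].getD i 0) (fun i => ?_)
    (fun z i j h h' => Fin.ext (((tcol_iff z i).1 h).2.symm.trans ((tcol_iff z j).1 h').2))
    InB (fun z => R (bpt 1) z) (fun i => R (bpt 1) (tRoot i)) (fun z => ?_) (fun z i h => hR.near_const h) using 3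
  · rw [(tsubOf_ok i i.2).1.count]
    revert i; decide +kernel
  · exact ⟨fun h => ⟨⟨tcolN z, tcolN_lt _⟩, (tcol_iff z _).2 ⟨h, rfl⟩⟩, fun ⟨i, h⟩ => ((tcol_iff z i).1 h).1⟩

omit hR in
theorem count_far (P : Pt → Prop) (flag : Fin 8 → Prop) (h : ∀ (z : Pt) (i : Fin 8), bit (kPart i).mask z = true → (P z ↔ flag i)) :
    (univ.filter fun z => z ≠ bpt 0 ∧ P z).card =
      ∑ i : Fin 8, if flag i then [780, 975, 1, 78, 300, 300, 650, 975].getD i 0 else 0 := by
  convert card_split (fun i : Fin 8 => (kPart i).mask) (fun i : Fin 8 => [780, 975, 1, 78, 300, 300, 650, 975].getD i 0)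
    (fun i => ?_) kPart_disjoint (fun z => z ≠ bpt 0) P flag (fun z => ?_) h using 3
  · rw [(kPart_ok i).count, kPart_sizes]
  · refine ⟨fun hz => kPart_cover z hz, ?_⟩
    rintro ⟨i, hi⟩ rfl
    exact Bool.eq_false_iff.1 (kPart_not_zero i) hi

omit hR in
theorem part_inB {i : Fin 8} {z : Pt} (hz : bit (kPart i).mask z = true) : InB z ↔ (i = 0 ∨ i = 1) := by
  obtain ⟨k, hk, -, rfl⟩ := kPart_conn hz
  rw [inB_smul hk, InB, show (kRoot i).1 = (kPart i).root from rfl, kPart_inB]
  simp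

theorem mu : (univ.filter fun z => InB z ∧ R (bpt 2) z).card =
    (if R (bpt 2) (kRoot 0) then 780 else 0) + if R (bpt 2) (kRoot 1) then 975 else 0 := by
  have h := count_far (fun z => InB z ∧ R (bpt 2) z) (fun i => (i = 0 ∨ i = 1) ∧ R (bpt 2) (kRoot i))
    fun z i hz => and_congr (part_inB hz) (hR.far_const hz)
  have e : (univ.filter fun z => InB z ∧ R (bpt 2) z).card = (univ.filter fun z : Pt => z ≠ bpt 0 ∧ InB z ∧ R (bpt 2) z).card := by
    congr 1
    ext z
    simp only [mem_filter, mem_univ, true_and]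
    exact ⟨fun h => ⟨fun e => not_inB_zero (e ▸ h.1), h⟩, fun h => h.2⟩
  rw [e]
  refine (Eq.trans ?_ h).trans ?_
  · congr 1
    ext z
    simp
  simp [Fin.sum_univ_succ]

theorem not_two_zero : ¬ R (bpt 2) (bpt 0) := fun h =>
  not_inB_of_inC two_inC ((hR.zero _).1 (hR.symm _ _ h))

theorem near_far (p : Pt) (hp : InB p) : (univ.filter fun q => InC q ∧ R p q).card =
    1754 - ∑ i : Fin 5, if R (bpt 1) (tRoot i) then [1, 10, 80, 640, 1024].getD i 0 else 0 := by
  obtain ⟨s, hs, rfl⟩ := exists_one_to hp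
  have e : (univ.filter fun q => InC q ∧ R (s (bpt 1)) q).card =
      (univ.filter fun q => InC q ∧ R (bpt 1) q).card := by
    refine (Finset.card_equiv s fun q => ?_).symm
    simp only [mem_filter, mem_univ, true_and, inC_smul hs, hR.smul s hs]
  have hd := hR.degree (bpt 1)
  rw [card_cases, hR.count_near, if_pos (hR.symm _ _ ((hR.zero _).2 one_inB))] at hd
  omega

theorem far_near (q : Pt) (hq : InC q) :
    (univ.filter fun p => InB p ∧ R q p).card = (univ.filter fun p => InB p ∧ R (bpt 2) p).card := by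
  obtain ⟨s, hs, rfl⟩ := exists_two_to hq
  refine (Finset.card_equiv s fun p => ?_).symm
  simp only [mem_filter, mem_univ, true_and, inB_smul hs, hR.smul s hs]

theorem double_count :
    1755 * (1754 - ∑ i : Fin 5, if R (bpt 1) (tRoot i) then [1, 10, 80, 640, 1024].getD i 0 else 0) =
      2304 * ((if R (bpt 2) (kRoot 0) then 780 else 0) + if R (bpt 2) (kRoot 1) then 975 else 0) := by
  set L := 1754 - ∑ i : Fin 5, if R (bpt 1) (tRoot i) then [1, 10, 80, 640, 1024].getD i 0 else 0 with hL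
  set M := (if R (bpt 2) (kRoot 0) then 780 else 0) + if R (bpt 2) (kRoot 1) then 975 else 0 with hM
  have e1 : ∑ p : Pt, (if InB p then (univ.filter fun q => InC q ∧ R p q).card else 0) = 1755 * L := by
    rw [← sum_filter, sum_congr rfl (fun p hp => hR.near_far p (mem_filter.1 hp).2), sum_const, smul_eq_mul]
    rw [card_inB]
  have e2 : ∑ q : Pt, (if InC q then (univ.filter fun p => InB p ∧ R q p).card else 0) = 2304 * M := by
    rw [← sum_filter, sum_congr rfl (fun q hq => (hR.far_near q (mem_filter.1 hq).2).trans hR.mu), sum_const,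
      smul_eq_mul]
    rw [card_inC]
  rw [← e1, ← e2]
  simp only [card_filter, ← apply_ite]
  calc ∑ p : Pt, (if InB p then ∑ q : Pt, (if InC q ∧ R p q then 1 else 0) else 0)
      = ∑ p : Pt, ∑ q : Pt, (if InB p ∧ InC q ∧ R p q then 1 else 0) := by
        refine sum_congr rfl fun p _ => ?_
        by_cases hp : InB p
        · rw [if_pos hp]
          refine sum_congr rfl fun q _ => if_congr ?_ rfl rfl
          exact ⟨fun h => ⟨hp, h⟩, fun h => h.2⟩
        · simp [hp]
    _ = ∑ q : Pt, ∑ p : Pt, (if InB p ∧ InC q ∧ R p q then 1 else 0) := sum_comm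
    _ = _ := by
        refine sum_congr rfl fun q _ => ?_
        by_cases hq : InC q
        · rw [if_pos hq]
          refine sum_congr rfl fun p _ => if_congr ?_ rfl rfl
          rw [hR.comm p q]
          exact ⟨fun h => ⟨h.1, h.2.2⟩, fun h => ⟨h.1, hq, h.2⟩⟩
        · simp [hq]

/-- No edge between the suborbits would cut the graph into cliques of size 1756. -/
theorem not_closed : ¬ ∀ p q, InB p → InC q → ¬ R p q := by
  intro hno
  have hmem : ∀ p, InB p → ∀ q, R p q → q ≠ p ∧ (q = bpt 0 ∨ InB q) := fun p hp q hq => by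
    refine ⟨fun e => hR.irrefl p (e ▸ hq), ?_⟩
    rcases cases3 q with h | h | h
    exacts [Or.inl h, Or.inr h, absurd hq (hno p q hp h)]
  have hall : ∀ p, InB p → ∀ q, InB q → q ≠ p → R p q := by
    intro p hp q hq hne
    by_contra hn
    have hsub : (univ.filter fun z => R p z) ⊆
        insert (bpt 0) (((univ.filter fun z : Pt => InB z).erase p).erase q) := fun z hz => by
      simp only [mem_filter, mem_univ, true_and] at hz
      obtain ⟨hzp, h0 | hB⟩ := hmem p hp z hz
      · exact mem_insert.2 (Or.inl h0)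
      · exact mem_insert_of_mem (mem_erase.2 ⟨fun e => hn (e ▸ hz), mem_erase.2 ⟨hzp, mem_filter.2 ⟨mem_univ _, hB⟩⟩⟩)
    have hle := (card_le_card hsub).trans (card_insert_le _ _)
    rw [hR.degree, card_erase_of_mem (mem_erase.2 ⟨hne, mem_filter.2 ⟨mem_univ _, hq⟩⟩),
      card_erase_of_mem (mem_filter.2 ⟨mem_univ _, hp⟩), card_inB] at hle
    omega
  have hB1 : ∀ p, InB p → ∀ x y, R p x → R p y → x = y ∨ R x y := by
    intro p hp x y hx hy
    by_cases hxy : x = y
    · exact Or.inl hxy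
    right
    rcases (hmem p hp x hx).2 with rfl | hxB <;> rcases (hmem p hp y hy).2 with rfl | hyB
    · exact absurd rfl hxy
    · exact (hR.zero _).2 hyB
    · exact hR.symm _ _ ((hR.zero _).2 hxB)
    · exact hall x hxB y hyB (Ne.symm hxy)
  have hclique : ∀ p x y, R p x → R p y → x = y ∨ R x y := by
    intro p x y hx hy
    obtain ⟨σ, hσ0, hσ⟩ := hR.move p
    subst hσ0
    obtain ⟨x, rfl⟩ := σ.surjective x
    obtain ⟨y, rfl⟩ := σ.surjective y
    rw [hσ] at hx hy
    rw [hσ, σ.injective.eq_iff]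
    obtain ⟨τ, hτ0, hτ⟩ := hR.move (bpt 1)
    have h01 : R (bpt 1) (bpt 0) := hR.symm _ _ ((hR.zero _).2 one_inB)
    have key := hB1 (bpt 1) one_inB (τ x) (τ y) (by rw [← hτ0]; exact (hτ _ _).2 hx) (by rw [← hτ0]; exact (hτ _ _).2 hy)
    rwa [hτ, τ.injective.eq_iff] at key
  let C : Pt → Finset Pt := fun p => univ.filter fun q => q = p ∨ R p q
  have hC : ∀ p, (C p).card = 1756 := fun p => by
    rw [show C p = insert p (univ.filter fun q => R p q) by ext q; simp [C],
      card_insert_of_notMem (by simp [hR.irrefl]), hR.degree]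
  have hdisj : ∀ p q, q ∉ C p → Disjoint (C p) (C q) := by
    intro p q hq
    refine disjoint_left.2 fun z hz hz' => hq ?_
    simp only [C, mem_filter, mem_univ, true_and] at hz hz' ⊢
    rcases hz with rfl | hz <;> rcases hz' with rfl | hz'
    · exact Or.inl rfl
    · exact Or.inr (hR.symm _ _ hz')
    · exact Or.inr hz
    · rcases hclique z p q (hR.symm _ _ hz) (hR.symm _ _ hz') with e | e
      exacts [Or.inl e.symm, Or.inr e]
  have h02 : bpt 2 ∉ C (bpt 0) := by
    simp only [C, mem_filter, mem_univ, true_and, hR.zero, not_or]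
    exact ⟨ne_zero_of_inC two_inC, not_inB_of_inC two_inC⟩
  have hu : (C (bpt 0) ∪ C (bpt 2)).card = 3512 := by rw [card_union_of_disjoint (hdisj _ _ h02), hC, hC]
  obtain ⟨r, -, hr⟩ := exists_mem_notMem_of_card_lt_card (s := C (bpt 0) ∪ C (bpt 2)) (t := univ)
    (by rw [hu, card_univ, Fintype.card_fin]; norm_num)
  rw [mem_union, not_or] at hr
  have h3 := card_le_univ (C (bpt 0) ∪ C (bpt 2) ∪ C r)
  rw [card_union_of_disjoint (disjoint_union_left.2 ⟨hdisj _ _ hr.1, hdisj _ _ hr.2⟩), hu, hC,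
    Fintype.card_fin] at h3
  omega

/-- The flags are forced. -/
theorem flags : (∀ i : Fin 5, R (bpt 1) (tRoot i) ↔ (i = 1 ∨ i = 2 ∨ i = 3)) ∧
    (∀ i : Fin 8, R (bpt 2) (kRoot i) ↔ (i = 0 ∨ i = 7)) := by
  have h0 : ¬ R (bpt 1) (tRoot 0) := by
    rw [show tRoot 0 = bpt 1 from Fin.ext (by rw [tRoot]; decide +kernel)]
    exact hR.irrefl _
  have h2 : ¬ R (bpt 2) (kRoot 2) := by
    rw [show kRoot 2 = bpt 2 from Fin.ext (by rw [kRoot]; decide +kernel)]
    exact hR.irrefl _
  have hd := hR.double_count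
  rcases flags_near (fun i => decide (R (bpt 1) (tRoot i))) (decide (R (bpt 2) (kRoot 0)))
    (decide (R (bpt 2) (kRoot 1))) (by simpa using h0) (by simpa using hd) with ⟨hT, hk0, hk1⟩ | ⟨hk0, hk1⟩
  · rw [decide_eq_true_eq] at hk0
    rw [decide_eq_false_iff_not] at hk1
    refine ⟨fun i => ?_, ?_⟩
    · have h := hT i
      rw [← decide_eq_true_iff (p := R (bpt 1) (tRoot i)), h]
      fin_cases i <;> simp
    have hd2 := count_far (fun z => R (bpt 2) z) (fun i => R (bpt 2) (kRoot i)) fun z i hz => hR.far_const hz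
    rw [show (univ.filter fun z : Pt => z ≠ bpt 0 ∧ R (bpt 2) z) = univ.filter fun z => R (bpt 2) z from
      filter_congr fun z _ => ⟨fun h => h.2, fun h => ⟨fun e => hR.not_two_zero (e ▸ h), h⟩⟩, hR.degree] at hd2
    have hF := flags_far (fun j => decide (R (bpt 2) (kRoot (Fin.natAdd 3 j)))) (by
      simp [Fin.sum_univ_succ, hk0, hk1, h2] at hd2 ⊢
      omega)
    intro i
    by_cases hi : i.1 < 3
    · rcases (show i = 0 ∨ i = 1 ∨ i = 2 by omega) with rfl | rfl | rfl <;> simp [hk0, hk1, h2]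
    · obtain ⟨j, rfl⟩ : ∃ j : Fin 5, Fin.natAdd 3 j = i := ⟨⟨i - 3, by omega⟩, Fin.ext (by simp; omega)⟩
      have h := hF j
      rw [← decide_eq_true_iff (p := R (bpt 2) (kRoot (Fin.natAdd 3 j))), h]
      fin_cases j <;> simp
  · rw [decide_eq_false_iff_not] at hk0 hk1
    refine absurd (fun p q hp hq hpq => ?_) hR.not_closed
    have hz : (univ.filter fun p => InB p ∧ R q p).card = 0 := by
      rw [hR.far_near q hq, hR.mu, if_neg hk0, if_neg hk1]
    exact filter_eq_empty_iff.1 (card_eq_zero.1 hz) (mem_univ p) ⟨hp, hR.symm _ _ hpq⟩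

theorem unique {R' : Pt → Pt → Prop} (hR' : Good R') (p q : Pt) : R p q ↔ R' p q := by
  have h2 : ∀ z, R (bpt 2) z ↔ R' (bpt 2) z := by
    intro z
    by_cases hz : z = bpt 0
    · subst hz; simp [hR.not_two_zero, hR'.not_two_zero]
    · obtain ⟨i, hi⟩ := kPart_cover z hz
      rw [hR.far_const hi, hR'.far_const hi, hR.flags.2 i, hR'.flags.2 i]
  have hC : ∀ p, InC p → ∀ z, R p z ↔ R' p z := by
    intro p hp z
    obtain ⟨s, hs, rfl⟩ := exists_two_to hp
    obtain ⟨w, rfl⟩ := s.surjective z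
    rw [hR.smul s hs, hR'.smul s hs, h2]
  rcases cases3 p with rfl | hp | hp
  · rw [hR.zero, hR'.zero]
  · rcases cases3 q with rfl | hq | hq
    · rw [hR.comm, hR'.comm, hR.zero, hR'.zero]
    · obtain ⟨s, hs, rfl⟩ := exists_one_to hp
      obtain ⟨w, rfl⟩ := s.surjective q
      have hw := (tcol_iff w ⟨tcolN w, tcolN_lt _⟩).2 ⟨(inB_smul hs w).1 hq, rfl⟩
      rw [hR.smul s hs, hR'.smul s hs, hR.near_const hw, hR'.near_const hw, hR.flags.1, hR'.flags.1]
    · rw [hR.comm, hR'.comm, hC q hq]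
  · exact hC p hp q

end Good

/-- The transported orbital is the adjacency of the model. -/
theorem Setup.rel_iff_adj {S : Setup G a b c} {φ : Pt ≃ Ω} (h0 : φ (bpt 0) = a)
    (hB : ∀ z, InB z ↔ φ z ∈ orbit (stabilizer G a) b)
    (he : ∀ (s : ↥(stab 1)) (z : Pt), φ (s.1 z) = S.ρ s (φ z)) (p q : Pt) :
    Rel G a b (φ p) (φ q) ↔ Adj p q :=
  (Setup.good h0 hB he).unique good_adj p q

end Cfsg.Lib.Ru4060.Recog
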