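import Cfsg.Agent.Lib.Ru4060.Recog.IsoCheck
import Cfsg.Agent.Lib.Ru4060.Chain
import Cfsg.Agent.Lib.Tits.Matrices
import Cfsg.Agent.S2185

/-!
# The point stabiliser is the group ²F₄(2)

The eight generators of ²F₄(2) permute the 1755 vectors as eight elements of the point stabiliser permute
the first suborbit; the group is faithful on the vectors.
-/

set_option autoImplicit false
set_option maxRecDepth 100000
set_option linter.style.haveILetI false

namespace Cfsg.Lib.Ru4060.Recog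

open Cfsg.Lib.CosetEnum Cfsg.Lie MulAction Matrix

local instance : Fact (Nat.Prime 2) := ⟨Nat.prime_two⟩

/-- The point of the first suborbit of a vector. -/
noncomputable def sigma (x : Fin 1755) : Fin 4060 := if h : sigmaTab.getP x < 4060 then ⟨_, h⟩ else bpt 0

theorem sigma_facts : ∀ {m i : ℕ}, sigmaOK m i = true → ∀ x, i ≤ x → x < i + m →
    sigmaTab.getP x < 4060 ∧ bit cls1.mask (sigmaTab.getP x) = true ∧ sinvTab.getP (sigmaTab.getP x) = x
  | 0, i, _, x, h1, h2 => by omega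
  | m + 1, i, h, x, h1, h2 => by
    simp only [sigmaOK, force_eq, Bool.and_eq_true, Nat.blt_eq, Nat.beq_eq] at h
    rcases Nat.eq_or_lt_of_le h1 with e | e
    · subst e
      exact ⟨h.1.1.1, Nat.beq_eq.mpr h.1.1.2, h.1.2⟩
    · exact sigma_facts (i := i + 1) h.2 x e (by omega)

theorem sigma_spec (x : Fin 1755) :
    (sigma x).1 = sigmaTab.getP x ∧ bit cls1.mask (sigma x) = true ∧ sinvTab.getP (sigma x) = x := by
  obtain ⟨h1, h2, h3⟩ := sigma_facts sigma_ok x (Nat.zero_le _) (by rw [Nat.zero_add]; exact x.2)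
  rw [sigma, dif_pos h1]
  exact ⟨rfl, h2, h3⟩

theorem sigma_injective : Function.Injective sigma := fun x y e =>
  Fin.ext ((sigma_spec x).2.2.symm.trans ((congrArg (fun z : Fin 4060 => sinvTab.getP z) e).trans (sigma_spec y).2.2))

theorem rootWord_vec : ∀ (w : List ℕ) (v : ℕ),
    Cfsg.Lib.Tits.rootWord w *ᵥ Cfsg.Lib.Tits.vecZ v = Cfsg.Lib.Tits.vecZ (applyW w v)
  | [], v => by simp [Cfsg.Lib.Tits.rootWord, applyW]
  | r :: w, v => by
    rw [show Cfsg.Lib.Tits.rootWord (r :: w) = Cfsg.Lib.Tits.toM (Cfsg.Lib.Tits.rootC r) *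
      Cfsg.Lib.Tits.rootWord w by simp [Cfsg.Lib.Tits.rootWord], ← Matrix.mulVec_mulVec, rootWord_vec w v,
      Cfsg.Lib.Tits.mulVec_toM]
    rfl

/-- A matrix and a permutation act alike on the vectors and the first suborbit. -/
def Linked (g : ↥Cfsg.Lib.Tits.WG) (s : ↥(stab 1)) : Prop :=
  ∀ x : Fin 1755, ∃ y : Fin 1755,
    ((g : GL Cfsg.Lib.Tits.II (ZMod 2)) : Matrix Cfsg.Lib.Tits.II Cfsg.Lib.Tits.II (ZMod 2)) *ᵥ
      Cfsg.Lib.Tits.vecZ (Cfsg.Lib.Tits.vecN x) = Cfsg.Lib.Tits.vecZ (Cfsg.Lib.Tits.vecN y) ∧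
    (s : Equiv.Perm (Fin 4060)) (sigma x) = sigma y

/-- The linked pairs. -/
def lnkM : Submonoid (↥Cfsg.Lib.Tits.WG × ↥(stab 1)) where
  carrier := {p | Linked p.1 p.2}
  one_mem' x := ⟨x, by simp, by simp⟩
  mul_mem' := by
    intro a b ha hb x
    obtain ⟨y, hy1, hy2⟩ := hb x
    obtain ⟨z, hz1, hz2⟩ := ha y
    refine ⟨z, ?_, ?_⟩
    · rw [Prod.fst_mul, Subgroup.coe_mul, Units.val_mul, ← Matrix.mulVec_mulVec, hy1, hz1]
    · rw [Prod.snd_mul, Subgroup.coe_mul, Equiv.Perm.mul_apply, hy2, hz2]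

/-- The linked pairs form a subgroup. -/
def lnk : Subgroup (↥Cfsg.Lib.Tits.WG × ↥(stab 1)) :=
  { lnkM with
    inv_mem' := by
      intro p hp
      have h : p ^ (orderOf p - 1) = p⁻¹ := eq_inv_of_mul_eq_one_left
        (by rw [← pow_succ, Nat.sub_add_cancel (orderOf_pos p), pow_orderOf_eq_one])
      exact h ▸ (show p ^ (orderOf p - 1) ∈ lnkM from pow_mem hp _) }

theorem iso_facts {k : ℕ} (hk : k < 8) : (∀ g ∈ isoWord k, g < 3) ∧ wordVal prm (isoWord k) (bpt 0) = bpt 0 ∧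
    ∀ x, x < 1755 → isoPt k x = true := by
  have h := List.all_eq_true.1 isoWords_ok k (List.mem_range.2 hk)
  simp only [Bool.and_eq_true, List.all_eq_true, Nat.blt_eq, Nat.beq_eq] at h
  refine ⟨h.1, Fin.ext ((prm_walk h.1 _).trans h.2), fun x hx => ?_⟩
  have key : isoOK k 1755 0 = true := by
    interval_cases k
    exacts [iso_ok0, iso_ok1, iso_ok2, iso_ok3, iso_ok4, iso_ok5, iso_ok6, iso_ok7]
  exact isoOK_get key x (Nat.zero_le _) (by omega)

theorem linked_gen {k : ℕ} (hk : k < 8) (g : ↥Cfsg.Lib.Tits.WG)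
    (hg : ((g : GL Cfsg.Lib.Tits.II (ZMod 2)) : Matrix Cfsg.Lib.Tits.II Cfsg.Lib.Tits.II (ZMod 2)) =
      Cfsg.Lib.Tits.rootWord (twWord k)) : ∃ s, (g, s) ∈ lnk := by
  obtain ⟨hl, h0, hpt⟩ := iso_facts hk
  have hmem : wordVal prm (isoWord k) ∈ stab 1 := ⟨wordVal_mem_grp hl, fun i hi => by
    obtain rfl : i = 0 := by omega
    exact h0⟩
  refine ⟨⟨_, hmem⟩, fun x => ?_⟩
  have h := hpt x x.2
  simp only [isoPt, force_eq, Bool.and_eq_true, Nat.blt_eq, Nat.beq_eq] at h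
  obtain ⟨⟨hy, hyt⟩, hv⟩ := h
  refine ⟨⟨_, hy⟩, ?_, Fin.ext ?_⟩
  · rw [hg, rootWord_vec]
    exact congrArg Cfsg.Lib.Tits.vecZ hv.symm
  · rw [(sigma_spec ⟨_, hy⟩).1, show ((⟨wordVal prm (isoWord k), hmem⟩ : ↥(stab 1)) : Equiv.Perm (Fin 4060)) =
      wordVal prm (isoWord k) from rfl, prm_walk hl, (sigma_spec x).1]
    exact hyt.symm

theorem gen_cases {w : List (ℕ × ZMod 2)} (hw : w ∈ f4Words (ZMod 2) 1) :
    chevF4.wordMat (ZMod 2) w = 1 ∨ ∃ k < 8, chevF4.wordMat (ZMod 2) w = Cfsg.Lib.Tits.rootWord (twWord k) := by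
  have h01 : ∀ t : ZMod 2, t = 0 ∨ t = 1 := by decide
  rcases hw with ⟨t, hw⟩ | ⟨t, u, hw⟩
  · rcases h01 t with rfl | rfl
    · left
      rcases hw with rfl | rfl <;> simp [ChevalleyDatum.wordMat, f4PairWord, Cfsg.Lib.Tits.x_zero_f4]
    · right
      rcases hw with rfl | rfl
      · exact ⟨0, by norm_num, by simp [ChevalleyDatum.wordMat, f4PairWord, Cfsg.Lib.Tits.rootWord, twWord,
          Cfsg.Lib.Tits.twWords, Cfsg.Lib.Tits.root_code, Cfsg.Lib.Tits.rootList, f4p1, f4p4]⟩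
      · exact ⟨1, by norm_num, by simp [ChevalleyDatum.wordMat, f4PairWord, Cfsg.Lib.Tits.rootWord, twWord,
          Cfsg.Lib.Tits.twWords, Cfsg.Lib.Tits.root_code, Cfsg.Lib.Tits.rootList, f4m1, f4m4]⟩
  · rcases h01 t with rfl | rfl <;> rcases h01 u with rfl | rfl
    · left
      rcases hw with rfl | rfl <;> simp [ChevalleyDatum.wordMat, b2ClassWord, Cfsg.Lib.Tits.x_zero_f4]
    · right
      rcases hw with rfl | rfl
      · exact ⟨3, by norm_num, by simp [ChevalleyDatum.wordMat, b2ClassWord, Cfsg.Lib.Tits.rootWord, twWord,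
          Cfsg.Lib.Tits.twWords, Cfsg.Lib.Tits.root_code, Cfsg.Lib.Tits.rootList, Cfsg.Lib.Tits.x_zero_f4,
          f4a, f4b, f4ab, f4aab]⟩
      · exact ⟨5, by norm_num, by simp [ChevalleyDatum.wordMat, b2ClassWord, Cfsg.Lib.Tits.rootWord, twWord,
          Cfsg.Lib.Tits.twWords, Cfsg.Lib.Tits.root_code, Cfsg.Lib.Tits.rootList, Cfsg.Lib.Tits.x_zero_f4,
          f4ma, f4mb, f4mab, f4maab]⟩
    · right
      rcases hw with rfl | rfl
      · exact ⟨2, by norm_num, by simp [ChevalleyDatum.wordMat, b2ClassWord, Cfsg.Lib.Tits.rootWord, twWord,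
          Cfsg.Lib.Tits.twWords, Cfsg.Lib.Tits.root_code, Cfsg.Lib.Tits.rootList, Cfsg.Lib.Tits.x_zero_f4,
          f4a, f4b, f4ab, f4aab]⟩
      · exact ⟨4, by norm_num, by simp [ChevalleyDatum.wordMat, b2ClassWord, Cfsg.Lib.Tits.rootWord, twWord,
          Cfsg.Lib.Tits.twWords, Cfsg.Lib.Tits.root_code, Cfsg.Lib.Tits.rootList, Cfsg.Lib.Tits.x_zero_f4,
          f4ma, f4mb, f4mab, f4maab]⟩
    · right
      rcases hw with rfl | rfl
      · exact ⟨6, by norm_num, by simp [ChevalleyDatum.wordMat, b2ClassWord, Cfsg.Lib.Tits.rootWord, twWord,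
          Cfsg.Lib.Tits.twWords, Cfsg.Lib.Tits.root_code, Cfsg.Lib.Tits.rootList, Cfsg.Lib.Tits.x_zero_f4,
          f4a, f4b, f4ab, f4aab, show (1 + 1 : ZMod 2) = 0 from rfl]⟩
      · exact ⟨7, by norm_num, by simp [ChevalleyDatum.wordMat, b2ClassWord, Cfsg.Lib.Tits.rootWord, twWord,
          Cfsg.Lib.Tits.twWords, Cfsg.Lib.Tits.root_code, Cfsg.Lib.Tits.rootList, Cfsg.Lib.Tits.x_zero_f4,
          f4ma, f4mb, f4mab, f4maab, show (1 + 1 : ZMod 2) = 0 from rfl]⟩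

theorem fst_surjective : Function.Surjective ((MonoidHom.fst _ _).comp lnk.subtype) := by
  rw [← MonoidHom.range_eq_top, MonoidHom.range_comp, Subgroup.range_subtype]
  refine Subgroup.map_injective (f := Cfsg.Lib.Tits.WG.subtype) Cfsg.Lib.Tits.WG.subtype_injective ?_
  refine le_antisymm (Subgroup.map_mono le_top) ?_
  rw [← MonoidHom.range_eq_map, Subgroup.range_subtype]
  refine (Subgroup.closure_le _).2 ?_
  rintro g ⟨w, hw, hg⟩
  have hgW : g ∈ Cfsg.Lib.Tits.WG := Subgroup.subset_closure ⟨w, hw, hg⟩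
  rcases gen_cases hw with h1 | ⟨k, hk, hk'⟩
  · rw [show g = 1 from Units.ext (hg.trans h1)]
    exact one_mem _
  · obtain ⟨s, hs⟩ := linked_gen hk ⟨g, hgW⟩ (hg.trans hk')
    exact ⟨⟨g, hgW⟩, ⟨(⟨g, hgW⟩, s), hs, rfl⟩, rfl⟩

theorem exists_linked (g : ↥Cfsg.Lib.Tits.WG) : ∃ s, Linked g s := by
  obtain ⟨⟨p, hp⟩, rfl⟩ := fst_surjective g
  exact ⟨p.2, hp⟩

/-- The matrices fixing every vector. -/
def kerV : Subgroup ↥Cfsg.Lib.Tits.WG where
  carrier := {g | ∀ x : Fin 1755,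
    ((g : GL Cfsg.Lib.Tits.II (ZMod 2)) : Matrix Cfsg.Lib.Tits.II Cfsg.Lib.Tits.II (ZMod 2)) *ᵥ
      Cfsg.Lib.Tits.vecZ (Cfsg.Lib.Tits.vecN x) = Cfsg.Lib.Tits.vecZ (Cfsg.Lib.Tits.vecN x)}
  mul_mem' := by
    intro a b ha hb x
    rw [Subgroup.coe_mul, Units.val_mul, ← Matrix.mulVec_mulVec, hb x, ha x]
  one_mem' x := by simp
  inv_mem' := by
    intro g hg x
    nth_rw 1 [← hg x]
    rw [Matrix.mulVec_mulVec, ← Units.val_mul, ← Subgroup.coe_mul, inv_mul_cancel]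
    simp

theorem kerV_normal : kerV.Normal := by
  refine ⟨fun k hk g x => ?_⟩
  obtain ⟨s, hs⟩ := exists_linked g⁻¹
  obtain ⟨y, hy, -⟩ := hs x
  rw [Subgroup.coe_mul, Subgroup.coe_mul, Units.val_mul, Units.val_mul, ← Matrix.mulVec_mulVec, hy,
    ← Matrix.mulVec_mulVec, hk y, ← hy, Matrix.mulVec_mulVec, ← Units.val_mul, ← Subgroup.coe_mul,
    mul_inv_cancel]
  simp

theorem gen_moves : Cfsg.Lib.PermAut.ent 11 (Cfsg.Lib.Tits.genT 0) 0 ≠ 0 := by decide +kernel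

theorem kerV_eq_bot : kerV = ⊥ := by
  haveI := kerV_normal
  haveI hsimp : IsSimpleGroup ↥Cfsg.Lib.Tits.TG := Cfsg.Lib.Chev.twistedF4_two_index_simple.2.1
  have hinf : kerV ⊓ Cfsg.Lib.Tits.TG = ⊥ := by
    rcases (inferInstance : (kerV.subgroupOf Cfsg.Lib.Tits.TG).Normal).eq_bot_or_eq_top with h | h
    · rwa [Subgroup.subgroupOf_eq_bot, disjoint_iff] at h
    · exfalso
      rw [Subgroup.subgroupOf_eq_top] at h
      have hp : ((Cfsg.Lib.Tits.sT 0, Cfsg.Lib.Tits.gen 0) : ↥Cfsg.Lib.Tits.TG × ↥Cfsg.Lib.Tits.Gam) ∈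
          Cfsg.Lib.Tits.Link := Subgroup.subset_closure ⟨0, rfl⟩
      have e := Cfsg.Lib.Tits.link_mem hp 0
      have hfix := h (Cfsg.Lib.Tits.sT 0).2 0
      have := congrArg Fin.val (Cfsg.Lib.Tits.vec_inj (e.symm.trans hfix))
      exact gen_moves ((Cfsg.Lib.Tits.gen_apply 0 0).symm.trans this)
  rw [eq_bot_iff]
  intro w hw
  rw [Subgroup.mem_bot]
  have hidx := Cfsg.Lib.Chev.twistedF4_two_index_simple.1
  have h2 : w ^ 2 ∈ kerV ⊓ Cfsg.Lib.Tits.TG :=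
    Subgroup.mem_inf.2 ⟨pow_mem hw 2, Subgroup.sq_mem_of_index_two hidx w⟩
  rw [hinf, Subgroup.mem_bot] at h2
  by_contra hne
  have ho : orderOf w = 2 := orderOf_eq_prime h2 hne
  have h1 : w ∈ kerV ⊓ Cfsg.Lib.Tits.TG := Subgroup.mem_inf.2 ⟨hw, Cfsg.Agent.S2185.result w ho⟩
  rw [hinf, Subgroup.mem_bot] at h1
  exact hne h1

theorem card_WG : Nat.card ↥Cfsg.Lib.Tits.WG = 35942400 := by
  have h := Cfsg.Lib.Tits.TG.index_mul_card
  rw [Cfsg.Lib.Tits.card_TG, show Cfsg.Lib.Tits.TG.index = 2 from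
    Cfsg.Lib.Chev.twistedF4_two_index_simple.1] at h
  omega

theorem snd_injective : Function.Injective ((MonoidHom.snd _ _).comp lnk.subtype) := by
  rw [injective_iff_map_eq_one]
  intro p hp
  have h2 : p.1.2 = 1 := hp
  have h1 : p.1.1 ∈ kerV := fun x => by
    obtain ⟨y, hy1, hy2⟩ := p.2 x
    rw [h2, OneMemClass.coe_one, Equiv.Perm.one_apply] at hy2
    rw [hy1, sigma_injective hy2]
  rw [kerV_eq_bot, Subgroup.mem_bot] at h1
  exact Subtype.ext (Prod.ext h1 h2)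

/-- The point stabiliser is ²F₄(2). -/
theorem exists_equiv_stab : Nonempty (↥(twistedF4 (ZMod 2) 1) ≃* ↥(stab 1)) := by
  have h1 := Nat.card_le_card_of_injective _ snd_injective
  have h2 := Nat.card_le_card_of_surjective _ fst_surjective
  rw [card_stab_one] at h1
  rw [card_WG] at h2
  have hc : Nat.card ↥lnk = 35942400 := le_antisymm h1 h2
  let e1 : ↥lnk ≃* ↥Cfsg.Lib.Tits.WG := MulEquiv.ofBijective _
    (fst_surjective.bijective_of_nat_card_le (le_of_eq (hc.trans card_WG.symm)))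
  let e2 : ↥lnk ≃* ↥(stab 1) := MulEquiv.ofBijective _
    (snd_injective.bijective_of_nat_card_le (le_of_eq (card_stab_one.trans hc.symm)))
  exact ⟨e1.symm.trans e2⟩

end Cfsg.Lib.Ru4060.Recog
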