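import Cfsg.Agent.Lib.Ru4060.Recog.IsoData
import Cfsg.Agent.Lib.Tits.MatData
import Cfsg.Agent.Lib.Tits.Defs

/-!
# The eight generators on the first suborbit: the check
-/

set_option autoImplicit false
set_option maxRecDepth 100000

namespace Cfsg.Lib.Ru4060.Recog

open Cfsg.Lib.CosetEnum

/-- A word of roots applied to a code of a vector, last letter first. -/
noncomputable def applyW (w : List ℕ) (v : ℕ) : ℕ :=
  List.rec (motive := fun _ => ℕ) v (fun r _ ih => Cfsg.Lib.Tits.mulV (Cfsg.Lib.Tits.rootC r) ih 52) w

/-- The word of a generator. -/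
def isoWord (k : ℕ) : List ℕ := isoWords.getD k []

/-- The roots of a generator. -/
def twWord (k : ℕ) : List ℕ := Cfsg.Lib.Tits.twWords.getD k []

/-- The bijection takes a generator to its word, at one vector. -/
noncomputable def isoPt (k x : ℕ) : Bool :=
  force (twalk tab 3 (isoWord k) (sigmaTab.getP x)) fun t => force (sinvTab.getP t) fun y =>
    Nat.blt y 1755 && Nat.beq (sigmaTab.getP y) t &&
      Nat.beq (Cfsg.Lib.Tits.vecN y) (applyW (twWord k) (Cfsg.Lib.Tits.vecN x))

/-- The bijection takes a generator to its word, on a range. -/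
noncomputable def isoOK (k : ℕ) : ℕ → ℕ → Bool
  | 0, _ => true
  | m + 1, x => force x fun x => isoPt k x && isoOK k m (Nat.add x 1)

theorem isoOK_get {k : ℕ} : ∀ {m i : ℕ}, isoOK k m i = true → ∀ x, i ≤ x → x < i + m → isoPt k x = true
  | 0, i, _, x, h1, h2 => by omega
  | m + 1, i, h, x, h1, h2 => by
    rw [isoOK, force_eq, Bool.and_eq_true] at h
    rcases Nat.eq_or_lt_of_le h1 with e | e
    · exact e ▸ h.1
    · exact isoOK_get (i := i + 1) h.2 x e (by omega)

/-- The words are words of the group fixing the first point. -/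
noncomputable def isoWordsOK : Bool :=
  (List.range 8).all fun k => ((isoWord k).all fun g => Nat.blt g 3) &&
    Nat.beq (twalk tab 3 (isoWord k) (bp 0)) (bp 0)

/-- The bijection lands in the first suborbit and is inverted by the table. -/
noncomputable def sigmaOK : ℕ → ℕ → Bool
  | 0, _ => true
  | m + 1, x => force x fun x => force (sigmaTab.getP x) fun s =>
      Nat.blt s 4060 && Nat.beq (Nat.land (Nat.shiftRight cls1.mask s) 1) 1 && Nat.beq (sinvTab.getP s) x &&
        sigmaOK m (Nat.add x 1)

theorem isoWords_ok : isoWordsOK = true := by decide +kernel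

theorem sigma_ok : sigmaOK 1755 0 = true := by decide +kernel

theorem iso_ok0 : isoOK 0 1755 0 = true := by decide +kernel

theorem iso_ok1 : isoOK 1 1755 0 = true := by decide +kernel

theorem iso_ok2 : isoOK 2 1755 0 = true := by decide +kernel

theorem iso_ok3 : isoOK 3 1755 0 = true := by decide +kernel

theorem iso_ok4 : isoOK 4 1755 0 = true := by decide +kernel

theorem iso_ok5 : isoOK 5 1755 0 = true := by decide +kernel

theorem iso_ok6 : isoOK 6 1755 0 = true := by decide +kernel

theorem iso_ok7 : isoOK 7 1755 0 = true := by decide +kernel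

end Cfsg.Lib.Ru4060.Recog
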