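import Cfsg.Agent.Lib.Ru4060.Recog.OctData
import Cfsg.Agent.Lib.Ru4060.Recog.GraphCheck

/-!
# The collinearity of the first suborbit: the checks
-/

set_option autoImplicit false
set_option linter.style.longLine false
set_option maxRecDepth 100000

namespace Cfsg.Lib.Ru4060.Recog

open Cfsg.Lib.CosetEnum

/-- A twelve bit field. -/
noncomputable def field12 (v i : ℕ) : ℕ := Nat.land (Nat.shiftRight v (Nat.mul 12 i)) 4095

/-- The ten collinear points. -/
noncomputable def tenList (z : ℕ) : List ℕ :=
  force (tenTab.getP (Nat.mul 2 z)) fun a => force (tenTab.getP (Nat.add (Nat.mul 2 z) 1)) fun b =>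
    [field12 a 0, field12 a 1, field12 a 2, field12 a 3, field12 a 4,
      field12 b 0, field12 b 1, field12 b 2, field12 b 3, field12 b 4]

/-- The set of a list as a mask. -/
noncomputable def maskOf (l : List ℕ) : ℕ := l.foldr (fun a m => Nat.lor (Nat.shiftLeft 1 a) m) 0

/-- A list increases and stays below the number of points. -/
noncomputable def incrB : List ℕ → Bool
  | x :: y :: l => Nat.blt x y && incrB (y :: l)
  | [x] => Nat.blt x 4060
  | [] => true

/-- The ten points increase. -/
noncomputable def tenIncFn (z : ℕ) : Bool := cond (bit cls1.mask z) (incrB (tenList z)) true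

/-- The ten points are moved along the orbit certificate. -/
noncomputable def tenUpFn (z : ℕ) : Bool :=
  cond (bit cls1.mask z)
    (cond (Nat.beq z (bp 1)) (Nat.beq (maskOf (tenList z)) tsub1.mask)
      (force (up cls1 z) fun y =>
        Nat.beq (maskOf (tenList z)) (maskOf ((tenList y).map fun q => twalk tab 3 (backWord cls1 z) q)))) true

/-- A point of the seventeen. -/
def octPt (i : ℕ) : ℕ := octPts.getD i 0

/-- The points within a distance. -/
def octLev (i k : ℕ) : ℕ := (octLevels.getD i []).getD k 0

/-- Distance zero. -/
noncomputable def levZeroFn (z : ℕ) : Bool :=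
  cond (bit cls1.mask z) ((List.range 17).all fun i =>
    cond (Nat.beq z (octPt i)) (bit (octLev i 0) z) (!(bit (octLev i 0) z))) true

/-- One more step. -/
noncomputable def levFn (i : ℕ) (z : ℕ) : Bool :=
  cond (bit cls1.mask z) (force i fun i => force z fun z => (List.range 3).all fun k =>
    cond (bit (octLev i k) z || (tenList z).any fun y => bit (octLev i k) y)
      (bit (octLev i (Nat.add k 1)) z) (!(bit (octLev i (Nat.add k 1)) z))) true

/-- One bit. -/
noncomputable def bval (M z : ℕ) : ℕ := cond (bit M z) 1 0

/-- The distance to one point as a digit. -/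
noncomputable def levDig (i z : ℕ) : ℕ :=
  Nat.add (bval (octLev i 0) z) (Nat.add (Nat.mul 2 (bval (octLev i 1) z))
    (Nat.add (Nat.mul 4 (bval (octLev i 2) z)) (Nat.mul 8 (bval (octLev i 3) z))))

/-- The distances from the first points. -/
noncomputable def sigN : ℕ → ℕ → ℕ
  | 0, _ => 0
  | j + 1, z => Nat.add (Nat.mul 16 (sigN j z)) (levDig j z)

/-- The distances from two points of the ten collinear ones, summed. -/
noncomputable def nbSum (z : ℕ) : ℕ :=
  (tenList z).foldr (fun y a => Nat.add (Nat.pow 2 (Nat.mul 4 (sigN 2 y))) a) 0

/-- The class of the second point. -/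
noncomputable def stepOneFn (z : ℕ) : Bool :=
  cond (bit cls1.mask z)
    (cond (Nat.beq (sigN 1 z) (sigN 1 (octPt 1))) (bit tsub4.mask z) true) true

/-- The class of the third point. -/
noncomputable def stepTwoFn (z : ℕ) : Bool :=
  cond (bit cls1.mask z)
    (cond (Nat.beq (sigN 2 z) (sigN 2 (octPt 2)) && Nat.beq (nbSum z) (nbSum (octPt 2))) (bit lvl20.mask z) true) true

/-- Each further point is alone. -/
noncomputable def stepFn (z : ℕ) : Bool :=
  cond (bit cls1.mask z) (force z fun z => (List.range 14).all fun k => force (Nat.add k 3) fun j =>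
    !(Nat.beq (sigN j z) (sigN j (octPt j))) || Nat.beq z (octPt j)) true

/-- The place of a point in the increasing list. -/
noncomputable def rankFn (z : ℕ) : Bool :=
  cond (bit cls1.mask z) (force (octRank.getP z) fun r => Nat.blt r 1755 && Nat.beq (octOrder.getP r) z) true

/-- The list increases, on a range. -/
noncomputable def orderFn (r : ℕ) : Bool :=
  cond (Nat.blt (Nat.add r 1) 1755)
    (Nat.blt (sigN 17 (octOrder.getP r)) (sigN 17 (octOrder.getP (Nat.add r 1)))) true

theorem tenInc_ok : onPts tenIncFn 4060 0 = true := by decide +kernel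

theorem tenUp_ok : onPts tenUpFn 4060 0 = true := by decide +kernel

theorem levZero_ok : onPts levZeroFn 4060 0 = true := by decide +kernel

theorem lev_ok0 : ((List.range 6).all fun i => onPts (levFn i) 4060 0) = true := by decide +kernel

theorem lev_ok1 : ((List.range 6).all fun i => onPts (levFn (Nat.add 6 i)) 4060 0) = true := by decide +kernel

theorem lev_ok2 : ((List.range 5).all fun i => onPts (levFn (Nat.add 12 i)) 4060 0) = true := by decide +kernel

theorem octPts_ok : ((List.range 17).all fun i => Nat.blt (octPt i) 4060 && bit cls1.mask (octPt i)) = true := by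
  decide +kernel

theorem stepOne_ok : onPts stepOneFn 4060 0 = true := by decide +kernel

theorem stepTwo_ok : onPts stepTwoFn 4060 0 = true := by decide +kernel

theorem step_ok : onPts stepFn 4060 0 = true := by decide +kernel

theorem rank_ok : onPts rankFn 4060 0 = true := by decide +kernel

theorem order_ok : onPts orderFn 1755 0 = true := by decide +kernel

theorem lvl20_fix : (lvl20.words.all fun w => Nat.beq (twalk tab 3 w (octPt 1)) (octPt 1)) = true := by decide +kernel

theorem lvl20_ok : LvlOK lvl20 :=
  { words := by decide +kernel, conn := by decide +kernel, count := by decide +kernel, root_lt := by decide +kernel }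

theorem sub_roots : tsub4.root = octPt 1 ∧ lvl20.root = octPt 2 ∧ lvl20.fix = 2 ∧ octPt 0 = bp 1 := by
  decide +kernel

/-- The separation of the parts of the second suborbit. -/
noncomputable def farSepOK : Bool :=
  (List.range 5).all fun i => force (farSep.getD i 0) fun b => force ([8, 5, 6, 7, 4].getD i 0) fun j =>
    Nat.beq (rowPt j) (kRoots.getD (Nat.add 3 i) 0) && Nat.blt b 4060 && bit cls1.mask b &&
      cond (bit (rowMask 3) b) (!(bit (rowMask j) b)) (bit (rowMask j) b)

theorem farSep_ok : farSepOK = true := by decide +kernel

end Cfsg.Lib.Ru4060.Recog
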