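import Cfsg.Agent.Lib.Ru4060.Recog.Basics
import Cfsg.Agent.Lib.Ru4060.Recog.OctCheck

/-!
# An automorphism of the graph fixing a point lies in the group

The collinearity of the first suborbit is read from the graph; three points leave only singletons.
-/

set_option autoImplicit false
set_option linter.style.longLine false
set_option maxRecDepth 100000

namespace Cfsg.Lib.Ru4060.Recog

open Cfsg.Lib.CosetEnum MulAction Finset
open scoped Classical

/-- The automorphisms of the graph fixing the first point. -/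
def autZero : Subgroup (Equiv.Perm Pt) where
  carrier := {h | (∀ p q, Adj (h p) (h q) ↔ Adj p q) ∧ h (bpt 0) = bpt 0}
  one_mem' := ⟨fun _ _ => Iff.rfl, rfl⟩
  mul_mem' {a b} ha hb := ⟨fun p q => (ha.1 _ _).trans (hb.1 p q),
    by rw [Equiv.Perm.mul_apply, hb.2, ha.2]⟩
  inv_mem' {a} ha := ⟨fun p q => by
    have := ha.1 (a⁻¹ p) (a⁻¹ q)
    simp only [Equiv.Perm.coe_inv, Equiv.apply_symm_apply] at this
    exact this.symm, by rw [Equiv.Perm.inv_eq_iff_eq]; exact ha.2.symm⟩

theorem stab_le_autZero : stab 1 ≤ autZero := fun _ hs =>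
  ⟨fun p q => adj_smul hs.1 p q, hs.2 0 Nat.one_pos⟩

theorem aut_inB {h : Equiv.Perm Pt} (hh : h ∈ autZero) (z : Pt) : InB (h z) ↔ InB z := by
  rw [← adj_zero, ← adj_zero, ← hh.1 (bpt 0) z, hh.2]

/-- Common neighbours in the first suborbit. -/
noncomputable def cntB (p q : Pt) : ℕ := (univ.filter fun z => InB z ∧ Adj p z ∧ Adj q z).card

/-- Collinearity. -/
def Col (p q : Pt) : Prop := InB p ∧ InB q ∧ Adj p q ∧ cntB p q = 217

theorem cntB_map {h : Equiv.Perm Pt} (hh : h ∈ autZero) (p q : Pt) : cntB (h p) (h q) = cntB p q := by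
  refine (Finset.card_equiv h fun z => ?_).symm
  simp only [mem_filter, mem_univ, true_and, aut_inB hh, hh.1]

theorem col_map {h : Equiv.Perm Pt} (hh : h ∈ autZero) (p q : Pt) : Col (h p) (h q) ↔ Col p q := by
  unfold Col
  rw [aut_inB hh, aut_inB hh, hh.1, cntB_map hh]

/-- A point of the seventeen. -/
def opt (i : ℕ) : Pt := if h : octPt i < 4060 then ⟨octPt i, h⟩ else bpt 0

theorem opt_facts {i : ℕ} (hi : i < 17) : (opt i).1 = octPt i ∧ InB (opt i) := by
  have h := List.all_eq_true.1 octPts_ok i (List.mem_range.2 hi)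
  simp only [Bool.and_eq_true, Nat.blt_eq] at h
  rw [opt, dif_pos h.1]
  exact ⟨rfl, h.2⟩

theorem row_counts :
    maskCount (Nat.land cls1.mask (Nat.land (rowMask 0) (rowMask 1))) 4060 = 217 ∧
    maskCount (Nat.land cls1.mask (Nat.land (rowMask 0) (rowMask 11))) 4060 = 345 ∧
    maskCount (Nat.land cls1.mask (Nat.land (rowMask 0) (rowMask 10))) 4060 = 281 ∧
    bit (rowMask 0) (rowPt 1) = true ∧ bit (rowMask 0) (rowPt 9) = false ∧
    [tsub0.root, tsub1.root, tsub2.root, tsub3.root, tsub4.root] =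
      [bp 1, rowPt 1, rowPt 11, rowPt 10, rowPt 9] ∧ rowPt 0 = bp 1 ∧ bit cls1.mask (rowPt 1) = true := by
  decide +kernel

theorem cntB_rows {i j : ℕ} (hi : i < 12) (hj : j < 12) {p q : Pt} (hp : p.1 = rowPt i) (hq : q.1 = rowPt j) :
    cntB p q = maskCount (Nat.land cls1.mask (Nat.land (rowMask i) (rowMask j))) 4060 :=
  card_filter_bit _ fun z => by
    rw [adj_row hi hp, adj_row hj hq, bit_land, bit_land, Bool.and_eq_true, Bool.and_eq_true]

theorem col_one (q : Pt) : Col (bpt 1) q ↔ bit tsub1.mask q = true := by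
  obtain ⟨c1, c2, c3, a1, a4, hr, h0, hb1⟩ := row_counts
  simp only [List.cons.injEq, and_true] at hr
  obtain ⟨r0, r1, r2, r3, r4⟩ := hr
  have hp : (bpt 1).1 = rowPt 0 := h0.symm
  have part : ∀ i : Fin 5, bit (tsubOf i).mask q = true →
      (Col (bpt 1) q ↔ (i : ℕ) = 1) := by
    intro i hi
    obtain ⟨hD, hfix⟩ := tsubOf_ok i i.2
    obtain ⟨x, hx, hxq⟩ := hD.root_conn hi
    have hx2 : x ∈ stab 2 := wgrp_le hD.words (le_of_eq hfix.symm) hx
    have hxa : x ∈ autZero := stab_le_autZero (mem_stab_two.1 hx2).1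
    have key : Col (bpt 1) q ↔ Col (bpt 1) ⟨(tsubOf i).root, hD.root_lt⟩ := by
      conv_lhs => rw [← (mem_stab_two.1 hx2).2, ← hxq]
      exact col_map hxa _ _
    rw [key]
    fin_cases i
    · refine iff_of_false (fun h => adj_irrefl (bpt 1) ?_) (by decide)
      have e : (⟨(tsubOf ((0 : Fin 5) : ℕ)).root, hD.root_lt⟩ : Pt) = bpt 1 := Fin.ext r0
      exact e ▸ h.2.2.1
    · refine iff_of_true ⟨one_inB, ?_, ?_, ?_⟩ rfl
      · show bit cls1.mask (tsubOf 1).root = true
        rw [show (tsubOf 1).root = rowPt 1 from r1]; exact hb1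
      · refine (adj_row (i := 0) (by norm_num) hp _).2 ?_
        show bit (rowMask 0) (tsubOf 1).root = true
        rw [show (tsubOf 1).root = rowPt 1 from r1]; exact a1
      · rw [cntB_rows (i := 0) (j := 1) (by norm_num) (by norm_num) hp r1]; exact c1
    · refine iff_of_false (fun h => ?_) (by decide)
      have := h.2.2.2
      rw [cntB_rows (i := 0) (j := 11) (by norm_num) (by norm_num) hp r2, c2] at this
      omega
    · refine iff_of_false (fun h => ?_) (by decide)
      have := h.2.2.2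
      rw [cntB_rows (i := 0) (j := 10) (by norm_num) (by norm_num) hp r3, c3] at this
      omega
    · refine iff_of_false (fun h => ?_) (by decide)
      have : bit (rowMask 0) (tsubOf 4).root = true := (adj_row (i := 0) (by norm_num) hp _).1 h.2.2.1
      rw [show (tsubOf 4).root = rowPt 9 from r4, a4] at this
      exact Bool.noConfusion this
  constructor
  · intro h
    have hi := (tcol_iff q ⟨tcolN q, tcolN_lt _⟩).2 ⟨h.2.1, rfl⟩
    have e := (part _ hi).1 h
    rw [show (⟨tcolN q, tcolN_lt _⟩ : Fin 5) = 1 from Fin.ext e] at hi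
    exact hi
  · intro h
    exact (part 1 h).2 rfl

theorem bit_maskOf : ∀ (l : List ℕ) (z : ℕ), bit (maskOf l) z = true ↔ z ∈ l
  | [], z => by simp [maskOf, bit]
  | a :: l, z => by
    have e : ∀ N : ℕ, bit N z = N.testBit z := fun N => by
      have h := Nat.toNat_testBit N z
      rw [bit, show Nat.land (Nat.shiftRight N z) 1 = (N >>> z) &&& 1 from rfl, Nat.and_one_is_mod,
        Nat.shiftRight_eq_div_pow]
      cases hb : N.testBit z <;> rw [hb] at h <;> simp at h <;> rw [← h] <;> rfl
    have ih := bit_maskOf l z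
    rw [e] at ih ⊢
    rw [show maskOf (a :: l) = (1 <<< a) ||| maskOf l from rfl, Nat.testBit_lor, Bool.or_eq_true,
      Nat.one_shiftLeft, Nat.testBit_two_pow, decide_eq_true_eq, ih, List.mem_cons]
    exact or_congr_left eq_comm

/-- The orbit certificate of the first suborbit, one step. -/
theorem up_step {z : Pt} (hz : InB z) :
    ∃ x ∈ stab 1, ∃ y : Pt, y.1 = up cls1 z ∧ InB y ∧ x y = z ∧
      ∀ q : Pt, (x q).1 = twalk tab 3 (backWord cls1 z) q := by
  obtain ⟨hl, hmem⟩ := backWord_facts cls1_ok.words z.1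
  have hx : wordVal prm (backWord cls1 z) ∈ stab 1 := wgrp_le_stab (i := 1) (by norm_num) le_rfl hmem
  refine ⟨_, hx, (wordVal prm (backWord cls1 z))⁻¹ z, ?_, (inB_smul (inv_mem hx) z).2 hz,
    (wordVal prm (backWord cls1 z)).apply_symm_apply z, fun q => prm_walk hl q⟩
  rw [prm_walk_reverse hl, up, force_eq]

theorem col_ten : ∀ (n : ℕ) (z : Pt), InB z → ups cls1 n z = cls1.root →
    ∀ q : Pt, Col z q ↔ q.1 ∈ tenList z := by
  intro n
  induction n with
  | zero =>
    intro z hz he q
    have e : z.1 = bp 1 := he.trans cls1_ok.root_eq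
    have hu := onPts_fin tenUp_ok z
    simp only [tenUpFn, show bit cls1.mask z.1 = true from hz, cond_true,
      show Nat.beq z.1 (bp 1) = true from Nat.beq_eq.mpr e, Nat.beq_eq] at hu
    rw [show z = bpt 1 from Fin.ext e, col_one, ← hu, bit_maskOf, show (bpt 1).1 = z.1 from e.symm]
  | succ n ih =>
    intro z hz he q
    have hu := onPts_fin tenUp_ok z
    by_cases e : z.1 = bp 1
    · simp only [tenUpFn, show bit cls1.mask z.1 = true from hz, cond_true,
        show Nat.beq z.1 (bp 1) = true from Nat.beq_eq.mpr e, Nat.beq_eq] at hu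
      rw [show z = bpt 1 from Fin.ext e, col_one, ← hu, bit_maskOf, show (bpt 1).1 = z.1 from e.symm]
    · simp only [tenUpFn, show bit cls1.mask z.1 = true from hz, cond_true,
        show Nat.beq z.1 (bp 1) = false from Bool.eq_false_iff.2 fun h => e (Nat.beq_eq.mp h), cond_false,
        force_eq, Nat.beq_eq] at hu
      obtain ⟨x, hx, y, hy, hyB, hxy, hwalk⟩ := up_step hz
      have ihy := ih y hyB (by rw [hy]; exact he) (x⁻¹ q)
      rw [← col_map (stab_le_autZero hx) y, hxy, show x (x⁻¹ q) = q from x.apply_symm_apply q] at ihy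
      rw [ihy, ← bit_maskOf (tenList z.1), hu, bit_maskOf, List.mem_map, ← hy]
      constructor
      · intro h
        exact ⟨_, h, by rw [← hwalk, show x (x⁻¹ q) = q from x.apply_symm_apply q]⟩
      · rintro ⟨a, ha, haq⟩
        have hinc := onPts_fin tenInc_ok y
        simp only [tenIncFn, show bit cls1.mask y.1 = true from hyB, cond_true] at hinc
        have hlt : a < 4060 := (incrB_facts hinc).1 a ha
        have : x ⟨a, hlt⟩ = q := Fin.ext ((hwalk _).trans haq)
        rw [← this, show x⁻¹ (x ⟨a, hlt⟩) = ⟨a, hlt⟩ from x.symm_apply_apply _]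
        exact ha
where
  incrB_facts : ∀ {l : List ℕ}, incrB l = true → (∀ a ∈ l, a < 4060) ∧ l.Pairwise (· < ·)
  | [], _ => by simp
  | [x], h => by simp [incrB, Nat.blt_eq] at h; simp [h]
  | x :: y :: l, h => by
    simp only [incrB, Bool.and_eq_true, Nat.blt_eq] at h
    obtain ⟨h1, h2⟩ := incrB_facts h.2
    refine ⟨?_, ?_⟩
    · intro a ha
      rcases List.mem_cons.1 ha with rfl | ha
      · exact lt_trans h.1 (h1 y (List.mem_cons_self ..))
      · exact h1 a ha
    · refine List.pairwise_cons.2 ⟨fun a ha => ?_, h2⟩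
      rcases List.mem_cons.1 ha with rfl | ha
      · exact h.1
      · exact lt_trans h.1 ((List.pairwise_cons.1 h2).1 a ha)

theorem col_iff {z : Pt} (hz : InB z) (q : Pt) : Col z q ↔ q.1 ∈ tenList z :=
  col_ten cls1.depth z hz (connOK_get cls1_ok.conn z (Nat.zero_le _) (by rw [Nat.zero_add]; exact z.2) hz) q

theorem ten_facts {z : Pt} (hz : InB z) : (∀ a ∈ tenList z, a < 4060) ∧ (tenList z).Pairwise (· < ·) := by
  have hinc := onPts_fin tenInc_ok z
  simp only [tenIncFn, show bit cls1.mask z.1 = true from hz, cond_true] at hinc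
  exact col_ten.incrB_facts hinc

/-- A check of the distance levels. -/
theorem lev_step {i k : ℕ} (hi : i < 17) (hk : k < 3) {z : Pt} (hz : InB z) :
    bit (octLev i (k + 1)) z = true ↔
      bit (octLev i k) z = true ∨ ∃ y : Pt, Col z y ∧ bit (octLev i k) y = true := by
  have key : onPts (levFn i) 4060 0 = true := by
    rcases (by omega : i < 6 ∨ 6 ≤ i ∧ i < 12 ∨ 12 ≤ i) with h | h | h
    · exact List.all_eq_true.1 lev_ok0 i (List.mem_range.2 h)
    · have := List.all_eq_true.1 lev_ok1 (i - 6) (List.mem_range.2 (by omega))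
      rwa [show Nat.add 6 (i - 6) = i from by show 6 + (i - 6) = i; omega] at this
    · have := List.all_eq_true.1 lev_ok2 (i - 12) (List.mem_range.2 (by omega))
      rwa [show Nat.add 12 (i - 12) = i from by show 12 + (i - 12) = i; omega] at this
  have h := onPts_fin key z
  simp only [levFn, show bit cls1.mask z.1 = true from hz, cond_true, force_eq, List.all_eq_true,
    List.mem_range] at h
  have h := h k hk
  have e : (bit (octLev i k) z.1 || (tenList z.1).any fun y => bit (octLev i k) y) = true ↔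
      bit (octLev i k) z = true ∨ ∃ y : Pt, Col z y ∧ bit (octLev i k) y = true := by
    rw [Bool.or_eq_true, List.any_eq_true]
    refine or_congr_right ⟨?_, ?_⟩
    · rintro ⟨a, ha, hb⟩
      exact ⟨⟨a, (ten_facts hz).1 a ha⟩, (col_iff hz _).2 ha, hb⟩
    · rintro ⟨y, hy, hb⟩
      exact ⟨y, (col_iff hz y).1 hy, hb⟩
  rw [← e]
  cases hc : (bit (octLev i k) z.1 || (tenList z.1).any fun y => bit (octLev i k) y) <;> rw [hc] at h
  · simp only [cond_false, Bool.not_eq_true', Nat.add_eq] at h
    simp [h]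
  · simp only [cond_true, Nat.add_eq] at h
    simp [h]

theorem lev_zero {i : ℕ} (hi : i < 17) {z : Pt} (hz : InB z) : bit (octLev i 0) z = true ↔ z = opt i := by
  have h := onPts_fin levZero_ok z
  simp only [levZeroFn, show bit cls1.mask z.1 = true from hz, cond_true, List.all_eq_true, List.mem_range] at h
  have h := h i hi
  rw [Fin.ext_iff, (opt_facts hi).1]
  cases hc : Nat.beq z.1 (octPt i) <;> rw [hc] at h
  · simp only [cond_false, Bool.not_eq_true'] at h
    exact iff_of_false (Bool.eq_false_iff.1 h) fun e => Bool.eq_false_iff.1 hc (Nat.beq_eq.mpr e)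
  · simp only [cond_true] at h
    exact iff_of_true h (Nat.beq_eq.mp hc)

variable {h : Equiv.Perm Pt} (hh : h ∈ autZero)
include hh

theorem lev_map {i : ℕ} (hi : i < 17) (hfix : h (opt i) = opt i) :
    ∀ {k : ℕ}, k < 4 → ∀ {z : Pt}, InB z → bit (octLev i k) (h z) = bit (octLev i k) z := by
  intro k
  induction k with
  | zero =>
    intro _ z hz
    rw [Bool.eq_iff_iff, lev_zero hi hz, lev_zero hi ((aut_inB hh z).2 hz)]
    conv_lhs => rw [← hfix]
    exact h.injective.eq_iff
  | succ k ih =>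
    intro hk z hz
    have ih : ∀ {w : Pt}, InB w → bit (octLev i k) (h w) = bit (octLev i k) w := fun hw => ih (by omega) hw
    rw [Bool.eq_iff_iff, lev_step hi (by omega) hz, lev_step hi (by omega) ((aut_inB hh z).2 hz), ih hz]
    refine or_congr_right ⟨?_, ?_⟩
    · rintro ⟨y, hy, hb⟩
      rw [show y = h (h⁻¹ y) from (h.apply_symm_apply y).symm, col_map hh] at hy
      rw [show y = h (h⁻¹ y) from (h.apply_symm_apply y).symm, ih hy.2.1] at hb
      exact ⟨_, hy, hb⟩
    · rintro ⟨y, hy, hb⟩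
      exact ⟨h y, (col_map hh z y).2 hy, by rw [ih hy.2.1]; exact hb⟩

theorem sigN_map : ∀ {j : ℕ}, j ≤ 17 → (∀ i < j, h (opt i) = opt i) → ∀ {z : Pt}, InB z →
    sigN j (h z) = sigN j z := by
  intro j
  induction j with
  | zero => intros; rfl
  | succ j ih =>
    intro hj hfix z hz
    have e : ∀ k < 4, bit (octLev j k) (h z) = bit (octLev j k) z := fun k hk =>
      lev_map hh (by omega) (hfix j (by omega)) hk hz
    simp only [sigN, levDig, bval, ih (by omega) (fun i hi => hfix i (by omega)) hz, e 0 (by norm_num),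
      e 1 (by norm_num), e 2 (by norm_num), e 3 (by norm_num)]

theorem nbSum_map (hfix : ∀ i < 2, h (opt i) = opt i) {z : Pt} (hz : InB z) : nbSum (h z) = nbSum z := by
  have key : ∀ {w : Pt}, InB w → nbSum w =
      ∑ y ∈ univ.filter (fun y => Col w y), 2 ^ (4 * sigN 2 y.1) := by
    intro w hw
    have hnd : (tenList w.1).Nodup := (ten_facts hw).2.imp fun h => h.ne
    have hsum : ∀ l : List ℕ, l.foldr (fun y a => Nat.add (Nat.pow 2 (Nat.mul 4 (sigN 2 y))) a) 0 =
        (l.map fun y => 2 ^ (4 * sigN 2 y)).sum := by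
      intro l
      induction l with
      | nil => rfl
      | cons a l ih => rw [List.foldr_cons, ih, List.map_cons, List.sum_cons]; rfl
    have himg : (univ.filter fun y => Col w y).map Fin.valEmbedding = (tenList w.1).toFinset := by
      ext a
      simp only [mem_map, mem_filter, mem_univ, true_and, List.mem_toFinset]
      constructor
      · rintro ⟨y, hy, rfl⟩; exact (col_iff hw y).1 hy
      · exact fun ha => ⟨⟨a, (ten_facts hw).1 a ha⟩, (col_iff hw _).2 ha, rfl⟩
    rw [nbSum, hsum, ← List.sum_toFinset _ hnd, ← himg, sum_map]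
    rfl
  rw [key hz, key ((aut_inB hh z).2 hz)]
  symm
  refine Finset.sum_equiv h (fun y => by simp [col_map hh]) fun y hy => ?_
  rw [sigN_map hh (by norm_num) hfix (mem_filter.1 hy).2.2.1]

theorem fix_all_inB (h0 : h (opt 0) = opt 0) (h1 : h (opt 1) = opt 1) (h2 : h (opt 2) = opt 2) {z : Pt}
    (hz : InB z) : h z = z := by
  have hall : ∀ j, j ≤ 17 → ∀ i < j, h (opt i) = opt i := by
    intro j
    induction j with
    | zero => intro _ i hi; omega
    | succ j ih =>
      intro hj i hi
      rcases Nat.lt_succ_iff_lt_or_eq.1 hi with hi | rfl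
      · exact ih (by omega) i hi
      rcases (by omega : i = 0 ∨ i = 1 ∨ i = 2 ∨ 3 ≤ i) with rfl | rfl | rfl | h3
      · exact h0
      · exact h1
      · exact h2
      obtain ⟨e, hB⟩ := opt_facts (i := i) (by omega)
      have hB' := (aut_inB hh _).2 hB
      have hs := onPts_fin step_ok (h (opt i))
      simp only [stepFn, show bit cls1.mask (h (opt i)).1 = true from hB', cond_true, force_eq, List.all_eq_true,
        List.mem_range, Bool.or_eq_true, Bool.not_eq_true', ← Bool.not_eq_true, Nat.beq_eq] at hs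
      have hs := hs (i - 3) (by omega)
      rw [show Nat.add (i - 3) 3 = i from by show i - 3 + 3 = i; omega] at hs
      refine Fin.ext ((hs.resolve_left fun hn => hn ?_).trans e.symm)
      rw [sigN_map hh (by omega) (ih (by omega)) hB, e]
  have hsig := sigN_map hh le_rfl (hall 17 le_rfl) hz
  have hr : ∀ {w : Pt}, InB w → octRank.getP w < 1755 ∧ octOrder.getP (octRank.getP w) = w := by
    intro w hw
    have h := onPts_fin rank_ok w
    simp only [rankFn, show bit cls1.mask w.1 = true from hw, cond_true, force_eq, Bool.and_eq_true, Nat.blt_eq,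
      Nat.beq_eq] at h
    exact h
  have hinc : ∀ r, r + 1 < 1755 → sigN 17 (octOrder.getP r) < sigN 17 (octOrder.getP (r + 1)) := by
    intro r hr
    have h := onPts_get order_ok r (Nat.zero_le _) (by omega)
    simp only [orderFn, Nat.add_eq, Nat.blt_eq] at h
    rw [show Nat.blt (r + 1) 1755 = true from Nat.blt_eq.mpr hr, cond_true, Nat.blt_eq] at h
    exact h
  have hmono : ∀ a b, a < b → b < 1755 → sigN 17 (octOrder.getP a) < sigN 17 (octOrder.getP b) := by
    intro a b hab hb
    induction b with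
    | zero => omega
    | succ b ih =>
      rcases Nat.lt_succ_iff_lt_or_eq.1 hab with h2 | rfl
      · exact lt_trans (ih h2 (by omega)) (hinc b hb)
      · exact hinc a hb
  obtain ⟨ha, ha'⟩ := hr hz
  obtain ⟨hb, hb'⟩ := hr ((aut_inB hh z).2 hz)
  rcases lt_trichotomy (octRank.getP (h z)) (octRank.getP z) with hl | hl | hl
  · exact absurd hsig (by have := hmono _ _ hl ha; rw [ha', hb'] at this; exact this.ne)
  · exact Fin.ext (hb'.symm.trans ((congrArg octOrder.getP hl).trans ha'))
  · exact absurd hsig (by have := hmono _ _ hl hb; rw [ha', hb'] at this; exact this.ne')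

omit hh in
theorem far_separated {h : Equiv.Perm Pt} (hh : h ∈ autZero) (hB : ∀ z, InB z → h z = z) : h (bpt 2) = bpt 2 := by
  have hC : InC (h (bpt 2)) := by
    rcases cases3 (h (bpt 2)) with h0 | hb | hc
    · exact absurd (h.injective (h0.trans hh.2.symm)) (ne_zero_of_inC two_inC)
    · exact absurd ((aut_inB hh _).1 hb) (not_inB_of_inC two_inC)
    · exact hc
  obtain ⟨i, hi⟩ := kPart_cover _ (ne_zero_of_inC hC)
  obtain ⟨k, hk, hk2, hkr⟩ := kPart_conn hi
  have hrC : InC (kRoot i) := by rwa [← inC_smul hk, hkr]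
  have hroots : ∀ j : Fin 8, (j.1 < 2 → bit clsFar.mask (kPart j).root = false) ∧
      (j.1 = 2 → (kPart j).root = bp 2) := by decide +kernel
  rcases (by omega : i.1 < 2 ∨ i.1 = 2 ∨ 3 ≤ i.1) with h2 | h2 | h2
  · exact Bool.noConfusion (((hroots i).1 h2).symm.trans hrC)
  · rw [← hkr, show kRoot i = bpt 2 from Fin.ext ((hroots i).2 h2), hk2]
  exfalso
  have hs := List.all_eq_true.1 farSep_ok (i.1 - 3) (List.mem_range.2 (by omega))
  simp only [force_eq, Bool.and_eq_true, Nat.beq_eq, Nat.blt_eq] at hs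
  obtain ⟨⟨⟨hj, hb⟩, hbB⟩, hne⟩ := hs
  set j := [8, 5, 6, 7, 4].getD (i.1 - 3) 0 with hjdef
  have hj12 : j < 12 := by
    have : ∀ m < 5, [8, 5, 6, 7, 4].getD m 0 < 12 := by decide
    exact this _ (by omega)
  set b : Pt := ⟨farSep.getD (i.1 - 3) 0, hb⟩
  have hr : (kRoot i).1 = rowPt j := by
    rw [hj, show Nat.add 3 (i.1 - 3) = i.1 from by show 3 + (i.1 - 3) = i.1; omega]
    rfl
  have hkb : InB (k b) := (inB_smul hk b).2 hbB
  have e : Adj (kRoot i) b ↔ Adj (bpt 2) b := by
    rw [← adj_smul hk.1 (kRoot i) b, ← adj_smul hk.1 (bpt 2) b, hkr, hk2]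
    conv_lhs => rw [← hB _ hkb]
    exact hh.1 _ _
  rw [adj_row hj12 hr, adj_row (i := 3) (by norm_num) (show (bpt 2).1 = rowPt 3 by decide +kernel)] at e
  cases h3 : bit (rowMask 3) b.1 <;> rw [h3] at hne e
  · simp only [cond_false] at hne
    exact Bool.noConfusion (e.1 hne)
  · simp only [cond_true, Bool.not_eq_true'] at hne
    exact Bool.noConfusion ((e.2 rfl).symm.trans hne)

omit hh in
/-- An automorphism fixing the first point and every point of the first suborbit is trivial. -/
theorem eq_one_of_fix_inB {h : Equiv.Perm Pt} (hh : h ∈ autZero) (hB : ∀ z, InB z → h z = z) : h = 1 := by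
  refine Equiv.ext fun z => ?_
  rcases cases3 z with rfl | hz | hz
  · exact hh.2
  · exact hB z hz
  · obtain ⟨s, hs, rfl⟩ := exists_two_to hz
    have hm : s⁻¹ * h * s ∈ autZero :=
      mul_mem (mul_mem (stab_le_autZero (inv_mem hs)) hh) (stab_le_autZero hs)
    have := far_separated hm fun w hw => by
      rw [Equiv.Perm.mul_apply, Equiv.Perm.mul_apply, hB _ ((inB_smul hs w).2 hw)]
      exact s.symm_apply_apply w
    rw [Equiv.Perm.mul_apply, Equiv.Perm.mul_apply, Equiv.Perm.inv_eq_iff_eq] at this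
    exact this

omit hh in
/-- An automorphism fixing the first point lies in the group. -/
theorem aut_mem_stab {h : Equiv.Perm Pt} (hh : h ∈ autZero) : h ∈ stab 1 := by
  obtain ⟨r4, r20, hfix20, h01⟩ := sub_roots
  have e0 : opt 0 = bpt 1 := Fin.ext ((opt_facts (by norm_num)).1.trans h01)
  obtain ⟨s1, hs1, e1⟩ := exists_one_to ((aut_inB hh (bpt 1)).2 one_inB)
  set k1 := s1⁻¹ * h
  have hk1 : k1 ∈ autZero := mul_mem (stab_le_autZero (inv_mem hs1)) hh
  have f0 : k1 (opt 0) = opt 0 := by
    rw [e0, Equiv.Perm.mul_apply, Equiv.Perm.inv_eq_iff_eq]; exact e1.symm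
  obtain ⟨o1, o1B⟩ := opt_facts (i := 1) (by norm_num)
  have b1 := (aut_inB hk1 _).2 o1B
  have hs := onPts_fin stepOne_ok (k1 (opt 1))
  simp only [stepOneFn, show bit cls1.mask (k1 (opt 1)).1 = true from b1, cond_true] at hs
  rw [show Nat.beq (sigN 1 (k1 (opt 1)).1) (sigN 1 (octPt 1)) = true from Nat.beq_eq.mpr
    (by rw [sigN_map hk1 (by norm_num) (fun i hi => by rwa [show i = 0 by omega]) o1B, o1]), cond_true] at hs
  obtain ⟨s2, hs2, e2⟩ := tsub4_ok.root_conn hs
  have hs2' : s2 ∈ stab 2 := wgrp_le tsub4_ok.words (le_of_eq rfl) hs2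
  have hs2a := stab_le_autZero (mem_stab_two.1 hs2').1
  set k2 := s2⁻¹ * k1
  have hk2 : k2 ∈ autZero := mul_mem (inv_mem hs2a) hk1
  have g0 : k2 (opt 0) = opt 0 := by
    rw [Equiv.Perm.mul_apply, f0, Equiv.Perm.inv_eq_iff_eq, e0, (mem_stab_two.1 hs2').2]
  have g1 : k2 (opt 1) = opt 1 := by
    rw [Equiv.Perm.mul_apply, Equiv.Perm.inv_eq_iff_eq, ← e2]
    exact congrArg s2 (Fin.ext (r4.trans o1.symm))
  obtain ⟨o2, o2B⟩ := opt_facts (i := 2) (by norm_num)
  have b2 := (aut_inB hk2 _).2 o2B
  have hg : ∀ i < 2, k2 (opt i) = opt i := fun i hi => by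
    rcases (by omega : i = 0 ∨ i = 1) with rfl | rfl
    exacts [g0, g1]
  have hs := onPts_fin stepTwo_ok (k2 (opt 2))
  simp only [stepTwoFn, show bit cls1.mask (k2 (opt 2)).1 = true from b2, cond_true,
    sigN_map hk2 (by norm_num) hg o2B, nbSum_map hk2 hg o2B, o2,
    show ∀ a : ℕ, Nat.beq a a = true from fun a => Nat.beq_eq.mpr rfl, Bool.and_true] at hs
  obtain ⟨s3, hs3, e3⟩ := lvl20_ok.root_conn hs
  have hs3' : s3 ∈ stab 2 := wgrp_le lvl20_ok.words (le_of_eq hfix20.symm) hs3
  have hs3a := stab_le_autZero (mem_stab_two.1 hs3').1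
  have hs3o : s3 (opt 1) = opt 1 := by
    have hle : wgrp lvl20 ≤ stabilizer (Equiv.Perm Pt) (opt 1) := by
      refine (Subgroup.closure_le _).2 ?_
      rintro _ ⟨w, hw, rfl⟩
      have hf := List.all_eq_true.1 lvl20_fix w hw
      rw [Nat.beq_eq] at hf
      exact Fin.ext (by
        show (wordVal prm w (opt 1)).1 = (opt 1).1
        rw [prm_walk (words_facts lvl20_ok.words hw).1, o1]; exact hf)
    exact hle hs3
  set k3 := s3⁻¹ * k2
  have hk3 : k3 ∈ autZero := mul_mem (inv_mem hs3a) hk2
  have hone : k3 = 1 := eq_one_of_fix_inB hk3 fun z hz => fix_all_inB hk3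
    (by rw [Equiv.Perm.mul_apply, g0, Equiv.Perm.inv_eq_iff_eq, e0, (mem_stab_two.1 hs3').2])
    (by rw [Equiv.Perm.mul_apply, g1, Equiv.Perm.inv_eq_iff_eq, hs3o])
    (by
      rw [Equiv.Perm.mul_apply, Equiv.Perm.inv_eq_iff_eq, ← e3]
      exact congrArg s3 (Fin.ext (r20.trans o2.symm))) hz
  have e : h = s1 * (s2 * (s3 * k3)) := by
    simp only [k3, k2, k1, mul_inv_cancel_left]
  rw [e, hone, mul_one]
  exact mul_mem hs1 (mul_mem (mem_stab_two.1 hs2').1 (mem_stab_two.1 hs3').1)

end Cfsg.Lib.Ru4060.Recog
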