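import Cfsg.Agent.Lib.Chev.TitsTwoTrans
import Cfsg.Agent.Lib.Linear.BNPair
import Cfsg.Agent.Lib.Ru4060.Recog.Iso
import Cfsg.Agent.Lib.Ru4060.Recog.Basics

/-!
# Subgroups of index 1755 of ²F₄(2)

Such a subgroup has odd index, so a conjugate contains the Borel subgroup and is parabolic. The parabolic
subgroup of the first node has order at most 12288, so only one parabolic has index 1755.
-/

set_option autoImplicit false
set_option linter.style.longLine false
set_option maxRecDepth 100000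
set_option maxHeartbeats 1000000

namespace Cfsg.Lib.Chev

open Cfsg Cfsg.Lie Cfsg.Lib.Linear

variable {K : Type*} [Field K] [CharP K esymF4.p] [Fintype K] (hK : Fintype.card K = 2 ^ (2 * 0 + 1))
include hK

theorem titsG_natCard : Nat.card ↥(titsG K) = 35942400 := by
  rw [show titsG K = twistedF4 K (2 ^ 0) from (twistedF4_eq hK).symm, twistedF4_order hK]; norm_num

/-- An odd-index subgroup has a conjugate containing the Sylow 2-subgroup. -/
theorem tits_exists_conj_above {M : Subgroup ↥(titsG K)} (hM : Odd M.index) :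
    ∃ g : ↥(titsG K), (chevF4.posUnipotent K).subgroupOf (titsG K) ≤ M.map (MulAut.conj g).toMonoidHom := by
  haveI : Fact (Nat.Prime 2) := ⟨Nat.prime_two⟩
  haveI : Finite ↥(titsG K) := Nat.finite_of_card_ne_zero (by rw [titsG_natCard hK]; norm_num)
  obtain ⟨Q, hQ⟩ := (tits_syl_pgroup hK).exists_le_sylow
  obtain ⟨R⟩ := (inferInstance : Nonempty (Sylow 2 ↥M))
  obtain ⟨R', hR'⟩ := ((R : Subgroup ↥M).map M.subtype |> fun S => (R.isPGroup'.map M.subtype).exists_le_sylow)
  have hcard : Nat.card ↥(R' : Subgroup ↥(titsG K)) ≤ Nat.card ↥((R : Subgroup ↥M).map M.subtype) := by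
    rw [Subgroup.card_map_of_injective M.subtype_injective, R.card_eq_multiplicity, R'.card_eq_multiplicity]
    refine Nat.le_of_eq ?_
    have h := M.card_mul_index
    have h2 : ¬ 2 ∣ M.index := Nat.two_dvd_ne_zero.mpr (Nat.odd_iff.1 hM)
    rw [← h, Nat.factorization_mul (Nat.card_pos.ne') (fun e => h2 (by rw [e]; exact dvd_zero 2)), Finsupp.add_apply,
      Nat.factorization_eq_zero_of_not_dvd h2, add_zero]
  have hle : (R' : Subgroup ↥(titsG K)) ≤ M := by
    rw [← Subgroup.eq_of_le_of_card_ge hR' hcard]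
    exact Subgroup.map_subtype_le _
  obtain ⟨g, hg⟩ := MulAction.exists_smul_eq ↥(titsG K) R' Q
  refine ⟨g, hQ.trans ?_⟩
  rw [← hg, Sylow.coe_subgroup_smul]
  exact Subgroup.map_mono hle

/-- The parabolic subgroup of a node is small. -/
theorem tits_parabolic_le {P : BNPair ↥(titsG K)} {n : Fin 2 → ↥(titsG K)}
    (hB : P.B = (chevF4.borelSubgroup K ⊓ (titsG K)).subgroupOf (titsG K)) (hS : P.S = Set.range n)
    (hsq : ∀ J, n J * n J = 1)
    (hn : ∀ J : Fin 2, ∀ i ∈ titsKept J, n J * titsElt hK [i] * n J = titsElt hK [titsRefl J i]) (J : Fin 2) :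
    Nat.card ↥(P.parabolic {n J}) ≤ 4096 * ((titsMoved J).length + 1) := by
  haveI : Finite ↥(titsG K) := Nat.finite_of_card_ne_zero (by rw [titsG_natCard hK]; norm_num)
  set U := (chevF4.posUnipotent K).subgroupOf (titsG K) with hU
  have hBU : P.B ≤ U := by
    intro x hx
    rw [hB, Subgroup.mem_subgroupOf] at hx
    exact Subgroup.mem_subgroupOf.2 (Subgroup.mem_inf.1 (tits_borel_le hK hx)).1
  let reps : List ↥(titsG K) := 1 :: (titsMoved J).map fun q => (titsElt hK q)⁻¹ * n J
  have hcov : (P.parabolic {n J} : Set ↥(titsG K)) ⊆ ⋃ i : Fin reps.length, (fun u => reps.get i * u) '' U := by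
    intro x hx
    obtain ⟨m, hm, hxm⟩ := BN.parabolic_cells (by rw [Set.singleton_subset_iff, hS]; exact Set.mem_range_self J) hx
    obtain ⟨b, hb, b', hb', rfl⟩ := BN.mem_cell.1 hxm
    suffices h : ∃ r ∈ reps, r⁻¹ * (b * m * b') ∈ U by
      obtain ⟨r, hr, hu⟩ := h
      obtain ⟨i, rfl⟩ := List.get_of_mem hr
      exact Set.mem_iUnion.2 ⟨i, _, hu, by group⟩
    have hm' : m = 1 ∨ m = n J := by
      obtain ⟨k, rfl⟩ := Subgroup.mem_closure_singleton.1 hm
      rcases Int.even_or_odd k with ⟨j, rfl⟩ | ⟨j, rfl⟩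
      · left; rw [← two_mul, zpow_mul, zpow_ofNat, pow_two, hsq, one_zpow]
      · right; rw [zpow_add_one, zpow_mul, zpow_ofNat, pow_two, hsq, one_zpow, one_mul]
    rcases hm' with rfl | rfl
    · exact ⟨1, List.mem_cons_self .., by simpa using mul_mem (hBU hb) (hBU hb')⟩
    · obtain ⟨w, q, hw, hq, e⟩ := tits_pos_split hK J (x := b⁻¹)
        (Subgroup.mem_subgroupOf.1 (hBU (inv_mem hb)))
      refine ⟨_, List.mem_cons_of_mem _ (List.mem_map.2 ⟨q, hq, rfl⟩), ?_⟩
      have hW : n J * titsElt hK w * n J ∈ U := by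
        rw [tits_refl_word hK hsq hn J w hw]; exact Subgroup.mem_subgroupOf.2 (titsElt_pos hK _)
      have hi : (n J)⁻¹ = n J := inv_eq_of_mul_eq_one_right (hsq J)
      have e2 : ((titsElt hK q)⁻¹ * n J)⁻¹ * (b * n J * b') = (n J * titsElt hK w * n J)⁻¹ * b' := by
        rw [show b = (titsElt hK q)⁻¹ * (titsElt hK w)⁻¹ by rw [← mul_inv_rev, ← e, inv_inv]]
        simp only [mul_inv_rev, inv_inv, hi, mul_assoc, mul_inv_cancel_left]
      rw [e2]
      exact mul_mem (inv_mem hW) (hBU hb')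
  rw [show Nat.card ↥(P.parabolic {n J}) = (P.parabolic {n J} : Set ↥(titsG K)).ncard from
    Nat.card_coe_set_eq _]
  refine (Set.ncard_le_ncard hcov).trans ((Set.ncard_iUnion_le_of_fintype _).trans ?_)
  refine (Finset.sum_le_sum fun i _ => Set.ncard_image_le).trans ?_
  rw [Finset.sum_const, Finset.card_univ, Fintype.card_fin, smul_eq_mul,
    show (U : Set ↥(titsG K)).ncard = 4096 by rw [← Nat.card_coe_set_eq]; exact tits_syl_card hK]
  simp [reps, mul_comm]

/-- Subgroups of index 1755 are conjugate. -/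
theorem tits_index_1755_conj {M M' : Subgroup ↥(titsG K)} (hM : M.index = 1755) (hM' : M'.index = 1755) :
    ∃ g : ↥(titsG K), M' = M.map (MulAut.conj g).toMonoidHom := by
  haveI : Finite ↥(titsG K) := Nat.finite_of_card_ne_zero (by rw [titsG_natCard hK]; norm_num)
  obtain ⟨P, n, hB, hS, hsq, hn⟩ := tits_exists_pair hK
  have hone : ∀ N : Subgroup ↥(titsG K), N.index = 1755 →
      ∃ g : ↥(titsG K), N.map (MulAut.conj g).toMonoidHom = P.parabolic {n 1} := by
    intro N hN
    obtain ⟨g, hg⟩ := tits_exists_conj_above hK (M := N) (by rw [hN]; decide)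
    refine ⟨g, ?_⟩
    set L := N.map (MulAut.conj g).toMonoidHom with hL
    have hidx : L.index = 1755 := by
      rw [hL, Subgroup.index_map_of_bijective (MulAut.conj g).bijective]; exact hN
    have hcard : Nat.card ↥L = 20480 := by
      have := L.card_mul_index
      rw [hidx, titsG_natCard hK] at this
      omega
    have hBL : P.B ≤ L := fun x hx => hg (by
      rw [hB, Subgroup.mem_subgroupOf] at hx
      exact Subgroup.mem_subgroupOf.2 (Subgroup.mem_inf.1 (tits_borel_le hK hx)).1)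
    have hpar := BN.eq_parabolic hBL
    have hnot : n 0 ∉ L := by
      intro h0
      by_cases h1 : n 1 ∈ L
      · have : L = ⊤ := by
          rw [hpar, ← BN.parabolic_S_eq_top (P := P), Set.inter_eq_left.2]
          rw [hS]; rintro _ ⟨i, rfl⟩; fin_cases i <;> assumption
        rw [this, Subgroup.index_top] at hidx
        omega
      · have e : P.S ∩ (L : Set ↥(titsG K)) = {n 0} := by
          rw [hS]
          refine Set.Subset.antisymm ?_ (by rintro _ rfl; exact ⟨Set.mem_range_self 0, h0⟩)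
          rintro _ ⟨⟨i, rfl⟩, hi⟩
          fin_cases i
          exacts [rfl, absurd hi h1]
        rw [e] at hpar
        have := tits_parabolic_le hK hB hS hsq hn 0
        rw [← hpar, hcard] at this
        simp [titsMoved] at this
    have h1 : n 1 ∈ L := by
      by_contra h1
      have e : P.S ∩ (L : Set ↥(titsG K)) = ∅ := by
        rw [hS]
        refine Set.eq_empty_of_forall_notMem ?_
        rintro _ ⟨⟨i, rfl⟩, hi⟩
        fin_cases i <;> contradiction
      rw [e, show P.parabolic ∅ = P.B by simp [BNPair.parabolic]] at hpar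
      have hle : Nat.card ↥P.B ≤ 4096 := by
        rw [← tits_syl_card hK]
        exact Subgroup.card_le_of_le fun x hx => by
          rw [hB, Subgroup.mem_subgroupOf] at hx
          exact Subgroup.mem_subgroupOf.2 (Subgroup.mem_inf.1 (tits_borel_le hK hx)).1
      rw [← hpar, hcard] at hle
      omega
    rw [hpar]
    congr 1
    rw [hS]
    refine Set.Subset.antisymm ?_ (by rintro _ rfl; exact ⟨Set.mem_range_self 1, h1⟩)
    rintro _ ⟨⟨i, rfl⟩, hi⟩
    fin_cases i
    exacts [absurd hi hnot, rfl]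
  obtain ⟨g, hg⟩ := hone M hM
  obtain ⟨g', hg'⟩ := hone M' hM'
  refine ⟨g'⁻¹ * g, ?_⟩
  rw [map_mul, show ((MulAut.conj g'⁻¹) * MulAut.conj g).toMonoidHom =
    (MulAut.conj g'⁻¹).toMonoidHom.comp (MulAut.conj g).toMonoidHom from rfl, ← Subgroup.map_map, hg, ← hg',
    Subgroup.map_map]
  convert (Subgroup.map_id M').symm
  ext x
  simp [mul_assoc]

end Cfsg.Lib.Chev

namespace Cfsg.Lib.Ru4060.Recog

open Cfsg.Lib.CosetEnum MulAction Cfsg.Lie

theorem index_point_stab : ((stabilizer (Equiv.Perm Pt) (bpt 1)).comap (stab 1).subtype).index = 1755 := by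
  rw [show (stabilizer (Equiv.Perm Pt) (bpt 1)).comap (stab 1).subtype = stabilizer ↥(stab 1) (bpt 1) from rfl,
    index_stabilizer, ← card_inB, ← Set.ncard_coe_finset]
  congr 1
  ext z
  simp only [Finset.coe_filter, Finset.mem_univ, true_and, Set.mem_ofPred_eq]
  constructor
  · rintro ⟨s, rfl⟩; exact (inB_smul s.2 _).2 one_inB
  · intro hz
    obtain ⟨s, hs, rfl⟩ := exists_one_to hz
    exact ⟨⟨s, hs⟩, rfl⟩

/-- Subgroups of index 1755 of the point stabiliser fix a point of the first suborbit. -/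
theorem uniq_near (M : Subgroup ↥(stab 1)) (hM : M.index = 1755) :
    ∃ z : Pt, InB z ∧ ∀ s : ↥(stab 1), s ∈ M ↔ s.1 z = z := by
  obtain ⟨e⟩ := exists_equiv_stab
  haveI : CharP (ZMod 2) Cfsg.Lib.Chev.esymF4.p := ZMod.charP 2
  have hK : Fintype.card (ZMod 2) = 2 ^ (2 * 0 + 1) := ZMod.card 2
  let θ : ↥(Cfsg.Lib.Chev.titsG (ZMod 2)) ≃* ↥(stab 1) :=
    (MulEquiv.subgroupCongr (show Cfsg.Lib.Chev.titsG (ZMod 2) = twistedF4 (ZMod 2) 1 from
      (Cfsg.Lib.Chev.twistedF4_eq hK).symm)).trans e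
  set S₁ : Subgroup ↥(stab 1) := (stabilizer (Equiv.Perm Pt) (bpt 1)).comap (stab 1).subtype with hS₁
  obtain ⟨g, hg⟩ := Cfsg.Lib.Chev.tits_index_1755_conj hK (M := S₁.comap θ.toMonoidHom)
    (M' := M.comap θ.toMonoidHom)
    ((Subgroup.index_comap_of_surjective _ θ.surjective).trans index_point_stab)
    ((Subgroup.index_comap_of_surjective _ θ.surjective).trans hM)
  refine ⟨(θ g).1 (bpt 1), (inB_smul (θ g).2 _).2 one_inB, fun s => ?_⟩
  obtain ⟨x, rfl⟩ := θ.surjective s
  rw [show θ x ∈ M ↔ x ∈ M.comap θ.toMonoidHom from Iff.rfl, hg, Subgroup.mem_map_equiv, Subgroup.mem_comap,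
    hS₁, Subgroup.mem_comap]
  show (θ ((MulAut.conj g).symm x)).1 (bpt 1) = bpt 1 ↔ _
  rw [MulAut.conj_symm_apply, map_mul, map_mul, map_inv, Subgroup.coe_mul, Subgroup.coe_mul, Subgroup.coe_inv,
    Equiv.Perm.mul_apply, Equiv.Perm.mul_apply, Equiv.Perm.inv_eq_iff_eq]

end Cfsg.Lib.Ru4060.Recog
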