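import Cfsg.Agent.Lib.Ru4060.Recog.Forced
import Cfsg.Agent.Lib.Ru4060.Recog.Octagon
import Cfsg.Agent.Lib.Ru4060.Recog.Parabolic
import Cfsg.Agent.Lib.Ru4060.Recog.Far
import Cfsg.Agent.Lib.RuMin.Aut

/-!
# The Rudvalis group from its rank three action on 4060 points
-/

set_option autoImplicit false
set_option linter.style.longLine false
set_option maxRecDepth 100000

namespace Cfsg.Lib.Ru4060.Recog

open Cfsg Cfsg.Lib.CosetEnum MulAction
open scoped Classical

theorem isoRu_of_rank_three {Ω : Type*} [Fintype Ω] [DecidableEq Ω] (hΩ : Fintype.card Ω = 4060)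
    (G : Subgroup (Equiv.Perm Ω)) [IsPretransitive G Ω] (a : Ω)
    (e : stabilizer G a ≃* Cfsg.Lie.twistedF4 (ZMod 2) 1) (b c : Ω)
    (hb : (orbit (stabilizer G a) b).ncard = 1755) (hc : (orbit (stabilizer G a) c).ncard = 2304) :
    Cfsg.Spor.IsoRu G := by
  obtain ⟨e₁⟩ := exists_equiv_stab
  set θ : ↥(stab 1) ≃* ↥(stabilizer G a) := e₁.symm.trans e.symm with hθ
  let S : Setup G a b c :=
    { hcard := hΩ
      trans := fun x => by
        obtain ⟨g, hg⟩ := exists_smul_eq G a x
        exact ⟨g.1, g.2, hg⟩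
      orbB := hb
      orbC := hc
      ρ := G.subtype.comp ((stabilizer G a).subtype.comp θ.toMonoidHom)
      inj := Subtype.val_injective.comp (Subtype.val_injective.comp θ.injective)
      mem := fun s => (θ s).1.2
      fix := fun s => (θ s).2
      surj := fun g hg hga => by
        obtain ⟨s, hs⟩ := θ.surjective ⟨⟨g, hg⟩, hga⟩
        exact ⟨s, congrArg (fun y : ↥(stabilizer G a) => y.1.1) hs⟩ }
  obtain ⟨φ, h0, hB, he⟩ := S.exists_phi ⟨uniq_near, uniq_far⟩
  set G' : Subgroup (Equiv.Perm Pt) := G.map φ.symm.permCongrHom.toMonoidHom with hG'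
  have hval : ∀ (g : Equiv.Perm Ω) (p : Pt), φ ((φ.symm.permCongrHom g) p) = g (φ p) := fun g p => by
    simp [Equiv.permCongrHom, Equiv.permCongr_apply]
  have hpres : ∀ h ∈ G', ∀ p q, Adj (h p) (h q) ↔ Adj p q := by
    rintro _ ⟨g, hg, rfl⟩ p q
    rw [← Setup.rel_iff_adj (S := S) h0 hB he, ← Setup.rel_iff_adj (S := S) h0 hB he]
    show Rel G a b (φ ((φ.symm.permCongrHom g) p)) (φ ((φ.symm.permCongrHom g) q)) ↔ _
    rw [hval, hval]
    exact S.rel_smul hg _ _
  have hle : G' ≤ grp := by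
    intro h hh
    obtain ⟨k, hk, hk0⟩ := exists_zero_to (h (bpt 0))
    have hx : k⁻¹ * h ∈ autZero := by
      refine ⟨fun p q => ?_, ?_⟩
      · rw [Equiv.Perm.mul_apply, Equiv.Perm.mul_apply, adj_smul (inv_mem hk)]
        exact hpres h hh p q
      · rw [Equiv.Perm.mul_apply, ← hk0]; simp
    have := mul_mem hk (aut_mem_stab hx).1
    rwa [mul_inv_cancel_left] at this
  have hcardA : Nat.card ↥(stabilizer G a) = 35942400 := (Nat.card_congr θ.toEquiv).symm.trans card_stab_one
  have hidx : (stabilizer G a).index = 4060 := by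
    rw [index_stabilizer, orbit_eq_univ, Set.ncard_univ, Nat.card_eq_fintype_card, hΩ]
  have hcard : Nat.card ↥G = 145926144000 := by
    rw [← (stabilizer G a).card_mul_index, hcardA, hidx]
  have heq : G' = grp := Subgroup.eq_of_le_of_card_ge hle (by
    rw [card_grp, hG', Subgroup.card_map_of_injective φ.symm.permCongrHom.injective, hcard])
  exact ⟨((G.equivMapOfInjective φ.symm.permCongrHom.toMonoidHom φ.symm.permCongrHom.injective).trans
    (MulEquiv.subgroupCongr heq)).trans Cfsg.Lib.RuMin.ruEquiv.symm⟩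

end Cfsg.Lib.Ru4060.Recog
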